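import Cfsg.Agent.MQ.Mx.Tab
import Cfsg.Agent.MQ.Ev.Api
import Cfsg.Agent.ODD.Red.Bas
import Cfsg.Agent.Characters.CCBasic
import Cfsg.Agent.LV.Cl.Conj_m3
import Cfsg.Agent.MQ.D.Def3
import Cfsg.Agent.MQ.Tu.Defs
import Cfsg.Agent.MQ.WC.D8b
import Cfsg.Agent.LV.W.C7
import Cfsg.Agent.MQ.WT.Chk
import Cfsg.Agent.MQ.U.MuN
import Cfsg.Agent.Lib.ListFast
import Cfsg.Agent.FastGrp
import Cfsg.Agent.Prune
set_option linter.all false
prune_inst 0x7f00000000000000000000000000000000000000000000000000000000000000000000000000000000000000000000000000000000000000000000000000000000000000000000000000000000000000003fffffffffffffffffffffffffffbeffbdfbfeffff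
open scoped Cfsg.Agent.FastGrp

-- part: MO/Nr/Abs
section
/-!
# MO/Nr: orbit sums and the order of the relative Weyl group (helper47)

* `card_infl`, `card_cmp` : characters of a quotient group;
* `Ort y'` : orthonormal families; `Co E y' y γ` : the coefficients of the restrictions;
* `Co.core0` : `Core0` from the coefficients; `Co.card_N0` : the order of the stabiliser; `Co.cnt_cmp`, `Co.cnt_cyc`.
-/

set_option autoImplicit false
set_option linter.unusedSectionVars false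

namespace Cfsg.Agent.MO.Rc

open CoxeterSystem Cfsg.Agent.Tits.Core Cfsg.Agent.Tits.Exchange Cfsg.Agent.MO.Crd Finset

section Grp

variable {G H : Type} [Group G] [Group H] [Finite G]

theorem card_infl (π : G →* H) (hπ : Function.Surjective π) (n : ℂ) :
    Nat.card {η : G → ℂ // (IsIrrCharacter G η ∧ ∀ v ∈ π.ker, η v = η 1) ∧ η 1 = n} =
      Nat.card {η : H → ℂ // IsIrrCharacter H η ∧ η 1 = n} := by
  refine (Nat.card_eq_of_bijective (fun η : {η : H → ℂ // IsIrrCharacter H η ∧ η 1 = n} =>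
    (⟨fun g => η.1 (π g), ⟨ODD.Red.isIrr_comp' π hπ η.2.1, fun v hv => congrArg η.1 ((π.mem_ker.1 hv).trans (map_one π).symm)⟩,
      (congrArg η.1 (map_one π)).trans η.2.2⟩ : {η : G → ℂ // (IsIrrCharacter G η ∧ ∀ v ∈ π.ker, η v = η 1) ∧ η 1 = n}))
    ⟨fun a b e => Subtype.ext (funext fun v => ?_), fun η => ?_⟩).symm
  · obtain ⟨g, rfl⟩ := hπ v
    exact congrFun (congrArg Subtype.val e) g
  · obtain ⟨θ, h1, h2⟩ := ODD.Red.exists_quot π hπ η.2.1.1 η.2.1.2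
    exact ⟨⟨θ, h1, by rw [← map_one π, h2]; exact η.2.2⟩, Subtype.ext (funext h2)⟩

theorem card_cmp [Finite H] (N : Subgroup G) [N.Normal] (φ : H →* G) (hφ : ∀ h, φ h ∈ N → h = 1)
    (hc : Nat.card G = Nat.card N * Nat.card H) (n : ℂ) :
    Nat.card {η : G → ℂ // (IsIrrCharacter G η ∧ ∀ v ∈ N, η v = η 1) ∧ η 1 = n} =
      Nat.card {η : H → ℂ // IsIrrCharacter H η ∧ η 1 = n} := by
  have h1 : Function.Bijective ((QuotientGroup.mk' N).comp φ) := (Nat.bijective_iff_injective_and_card _).2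
    ⟨(injective_iff_map_eq_one _).2 fun h e => hφ h ((QuotientGroup.eq_one_iff _).1 e), by
      rw [Subgroup.card_eq_card_quotient_mul_card_subgroup N, mul_comm] at hc
      exact (Nat.eq_of_mul_eq_mul_left Nat.card_pos hc).symm⟩
  have h2 := card_infl ((MulEquiv.ofBijective _ h1).symm.toMonoidHom.comp (QuotientGroup.mk' N))
    ((MulEquiv.ofBijective _ h1).symm.surjective.comp (QuotientGroup.mk'_surjective N)) n
  rwa [MonoidHom.ker_comp_of_injective _ _ (MulEquiv.injective _), QuotientGroup.ker_mk'] at h2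

theorem card_comm (hc : ∀ a b : G, a * b = b * a) (n : ℕ) :
    Nat.card {η : G → ℂ // IsIrrCharacter G η ∧ η 1 = n} = if n = 1 then Nat.card G else 0 := by
  split_ifs with h
  · rw [← Characters.CCBasic.card_irr_of_comm hc]
    exact Nat.card_congr (Equiv.subtypeEquivRight fun η => and_iff_left_of_imp fun h1 => by
      rw [Characters.CCBasic.irr_apply_one_of_comm hc h1, h, Nat.cast_one])
  · exact Nat.card_eq_zero.2 (Or.inl ⟨fun η => h (Nat.cast_eq_one.1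
      (η.2.2.symm.trans (Characters.CCBasic.irr_apply_one_of_comm hc η.2.1)))⟩)

end Grp

variable {R R' : RC} {ι ι' : Type} [Fintype ι] [Fintype ι'] {E : Emb R' R} {y' : ι' → R'.W → ℂ} {y : ι → R.W → ℂ}

theorem Fam.inv' (F : Fam R y) (i : ι) (g u : R.W) : y i (g * u * (R.ψ g)⁻¹) = y i u := by
  rw [mul_assoc, F.inv i g (mem_WJ_univ _ _) _ (mem_WJ_univ _ _), inv_mul_cancel_right]

theorem Emb.Mx.fus {v : Ev R} (H : E.Mx v) : Fus E := fun _ _ _ e => H.Nh_of (mul_inv_eq_of_eq_mul e.symm)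

namespace Emb

theorem ex_out (f : R'.W → ℂ) {v : R.W} (hv : v ∉ Set.range E.el) : E.ex f v = 0 := Function.extend_apply' _ _ _ hv

theorem Rl.of_el {x : Ex R} {f f' : R'.W → ℂ} (hx : x ∈ E.Nh) (h : ∀ u u', ac x (E.el u) = E.el u' → f u' = f' u) :
    E.Rl x f f' := ⟨hx, fun v => by
  by_cases hv : v ∈ Set.range E.el
  · obtain ⟨u', e⟩ := (hx v).1 hv
    obtain ⟨u, rfl⟩ := hv
    rw [← e, ex_el, ex_el, h u u' e.symm]
  · rw [ex_out _ hv, ex_out _ (mt (hx v).2 hv)]⟩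

theorem Rl.eq {x : Ex R} {f f' : R'.W → ℂ} (h : E.Rl x f f') {u u' : R'.W} (e : ac x (E.el u) = E.el u') : f u' = f' u := by
  rw [← E.ex_el f, ← e, h.2, ex_el]

theorem Rl.uniq {x : Ex R} {f f' f'' : R'.W → ℂ} (h : E.Rl x f f') (h' : E.Rl x f f'') : f' = f'' :=
  funext fun u => by rw [← E.ex_el f', ← h.2, h'.2, ex_el]

theorem Ob.refl (f : R'.W → ℂ) : E.Ob f f := ⟨1, by rw [map_one]; exact Rl.refl E f⟩

theorem Ob.symm {f f' : R'.W → ℂ} : E.Ob f f' → E.Ob f' f := fun ⟨n, h⟩ => ⟨n⁻¹, by rw [map_inv]; exact h.symm⟩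

theorem ac_j (g u : R'.W) : ac (SemidirectProduct.inl (E.j g)) (E.el u) = E.el (g * u * (R'.ψ g)⁻¹) := by
  rw [ac_inl, ← map_inv R'.ψ, el_ψ, el_mul, map_inv, map_inv]

theorem conj_mem {n v : R.W} (hn : SemidirectProduct.inl n ∈ E.Nh) (hv : v ∈ E.j.range) : n * v * n⁻¹ ∈ E.j.range := by
  obtain ⟨u, rfl⟩ := hv
  obtain ⟨a, e⟩ := (hn _).1 ⟨u, rfl⟩
  obtain ⟨b, e'⟩ := (hn _).1 ⟨1, rfl⟩
  rw [ac_inl, el, el] at e e'
  refine ⟨a * b⁻¹, ?_⟩
  rw [map_mul, map_inv, eq_mul_inv_of_mul_eq e, eq_mul_inv_of_mul_eq e', map_one]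
  group

theorem le_N0 (hF : Fus E) {f : R'.W → ℂ} (hf : ∀ g u, f (g * u * (R'.ψ g)⁻¹) = f u) : E.j.range ≤ E.N0 f := by
  rintro _ ⟨g, rfl⟩
  refine Rl.of_el (hF _ 1 _ (by rw [← ac_j, ac_inl, inv_mul_cancel_right])) fun u u' e => ?_
  rw [← E.el_inj ((ac_j g u).symm.trans e), hf]

theorem sum_ex (f : R'.W → ℂ) (Y : R.W → ℂ) : ∑ u, f u * Y (E.el u) = ∑ v, E.ex f v * Y v :=
  Fintype.sum_of_injective E.el E.el_inj _ _ (fun v hv => by rw [ex_out _ hv, zero_mul]) fun u => by rw [ex_el]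

theorem Ob.sum {f f' : R'.W → ℂ} (h : E.Ob f f') {Y : R.W → ℂ} (hY : ∀ g u, Y (g * u * (R.ψ g)⁻¹) = Y u) :
    ∑ u, f u * Y (E.el u) = ∑ u, f' u * Y (E.el u) := by
  obtain ⟨n, h⟩ := h
  rw [sum_ex, sum_ex]
  exact (Fintype.sum_bijective (ac (SemidirectProduct.inl n)) (Function.bijective_iff_has_inverse.2 ⟨_, ac_inv' _, ac_inv _⟩)
    _ _ fun v => by rw [h.2, ac_inl, hY]).symm

/-- a complement of the Levi subgroup in the stabiliser -/
theorem card_Et (hF : Fus E) {f : R'.W → ℂ} (hf : ∀ g u, f (g * u * (R'.ψ g)⁻¹) = f u) {H : Type} [Group H] [Finite H]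
    (φ : H →* R.W) (h1 : ∀ h, φ h ∈ E.N0 f) (h2 : ∀ h, φ h ∈ E.j.range → h = 1)
    (hc : Nat.card (E.N0 f) = Nat.card R'.W * Nat.card H) (n : ℂ) :
    Nat.card {η // η ∈ E.Et f ∧ η 1 = n} = Nat.card {η : H → ℂ // IsIrrCharacter H η ∧ η 1 = n} := by
  have : (E.j.range.subgroupOf (E.N0 f)).Normal := ⟨fun a ha g => conj_mem g.2.1 ha⟩
  refine card_cmp (E.j.range.subgroupOf (E.N0 f)) (φ.codRestrict _ h1) h2 ?_ n
  rw [hc, Nat.card_congr (Subgroup.subgroupOfEquivOfLe (le_N0 hF hf)).toEquiv,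
    Nat.card_congr (MonoidHom.ofInjective E.inj).toEquiv]

end Emb

open Classical in
/-- an orthonormal family -/
def Ort (y' : ι' → R'.W → ℂ) : Prop := ∀ k k', ∑ u, y' k u * y' k' u = if k = k' then (Nat.card R'.W : ℂ) else 0

/-- the coefficients of the restrictions -/
structure Co (E : Emb R' R) (y' : ι' → R'.W → ℂ) (y : ι → R.W → ℂ) (γ : ι → ι' → ℤ) : Prop where
  ort : Ort y'
  fam : Fam R y
  res : ∀ i u, y i (E.el u) = ∑ k, γ i k * y' k u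

namespace Co

variable {γ : ι → ι' → ℤ} (C : Co E y' y γ)
include C

theorem ip (i : ι) (k : ι') : ∑ u, y' k u * y i (E.el u) = γ i k * (Nat.card R'.W : ℂ) := by
  simp only [C.res, mul_sum]
  rw [sum_comm]
  simp only [mul_left_comm (y' k _), ← mul_sum, C.ort k]
  rw [sum_eq_single k (fun l _ h => by rw [if_neg h.symm, mul_zero]) fun h => absurd (mem_univ k) h, if_pos rfl]

theorem eq_of_Ob (i : ι) {k k' : ι'} (h : E.Ob (y' k) (y' k')) : γ i k = γ i k' := by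
  have h1 := h.sum (C.fam.inv' i)
  rw [C.ip, C.ip, mul_left_inj' (Nat.cast_ne_zero.2 Nat.card_pos.ne')] at h1
  exact Int.cast_injective h1

open Classical in
theorem ip_os (k i' : ι') : ∑ u, y' k u * E.os y' i' u = if E.Ob (y' i') (y' k) then (Nat.card R'.W : ℂ) else 0 := by
  simp only [Emb.os, Finset.sum_apply, mul_sum]
  rw [sum_comm, sum_congr rfl fun l _ => C.ort k l]
  simp only [_root_.Nat.card_eq_fintype_card, _root_.Finset.sum_ite_eq, _root_.Finset.mem_filter, _root_.Finset.mem_univ, _root_.true_and]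

variable (hC : ∀ i k k', γ i k ≠ 0 → γ i k' ≠ 0 → E.Ob (y' k) (y' k'))
include hC

theorem res_os {i : ι} {k : ι'} (h : γ i k ≠ 0) (u : R'.W) : y i (E.el u) = γ i k * E.os y' k u := by
  rw [C.res, Emb.os, Finset.sum_apply, mul_sum, sum_filter]
  refine sum_congr rfl fun l _ => ?_
  split_ifs with h1
  · rw [C.eq_of_Ob i h1]
  · rw [not_not.1 (mt (hC i k l h) h1), Int.cast_zero, zero_mul]

theorem Ov_iff (i : ι) (k : ι') {n : ℕ} (hn : 0 < n) : E.Ov (y i) n (E.os y' k) ↔ (γ i k).natAbs = n := by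
  have h0 : (Nat.card R'.W : ℂ) ≠ 0 := Nat.cast_ne_zero.2 Nat.card_pos.ne'
  have h1 := C.ip i k
  have h2 := C.ip_os k k
  rw [if_pos (Emb.Ob.refl _)] at h2
  rw [Int.natAbs_eq_iff]
  refine or_congr ⟨fun h => ?_, fun h u => ?_⟩ ⟨fun h => ?_, fun h u => ?_⟩
  · simp only [h, mul_left_comm _ (n : ℂ), ← mul_sum, h2, mul_left_inj' h0] at h1
    exact_mod_cast h1.symm
  · rw [C.res_os hC (k := k) (by omega), h, Int.cast_natCast]
  · simp only [h, mul_neg, mul_left_comm _ (n : ℂ), sum_neg_distrib, ← mul_sum, h2] at h1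
    rw [← neg_mul, mul_left_inj' h0] at h1
    exact_mod_cast h1.symm
  · rw [C.res_os hC (k := k) (by omega), h, Int.cast_neg, Int.cast_natCast, neg_mul]

/-- **`Core0` from the coefficients** -/
theorem core0 (hN : ∀ k n, 0 < n → Nat.card {i // (γ i k).natAbs = n} = Nat.card {η // η ∈ E.Et (y' k) ∧ η 1 = (n : ℕ)}) :
    Core0 E y' y where
  ne k h := by
    have h2 := C.ip_os k k
    rw [if_pos (Emb.Ob.refl _), h] at h2
    exact Nat.cast_ne_zero.2 Nat.card_pos.ne' (h2.symm.trans (by simp))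
  ind k k' a b ha h := by
    have h1 := C.ip_os k k
    have h2 := C.ip_os k k'
    by_contra hn
    rw [if_pos (Emb.Ob.refl _)] at h1
    rw [if_neg (mt Emb.Ob.symm hn)] at h2
    have h3 : ∑ u, y' k u * (a • E.os y' k) u = ∑ u, y' k u * (b • E.os y' k') u := by rw [h]
    simp only [Pi.smul_apply, smul_eq_mul, mul_left_comm _ a, mul_left_comm _ b, ← mul_sum, h1, h2] at h3
    simp [ha] at h3
  ex i := by
    by_cases h : ∃ k, γ i k ≠ 0
    · obtain ⟨k, h⟩ := h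
      exact Or.inr ⟨k, _, Int.natAbs_pos.2 h, (C.Ov_iff hC i k (Int.natAbs_pos.2 h)).2 rfl⟩
    · push Not at h
      exact Or.inl fun u => by simp only [C.res, h, _root_.Int.cast_zero, _root_.MulZeroClass.zero_mul, _root_.Finset.sum_const_zero]
  cnt k n hn := (Nat.card_congr (Equiv.subtypeEquivRight fun i => C.Ov_iff hC i k hn)).trans (hN k n hn)

omit hC

/-- **the order of the stabiliser** -/
theorem card_N0 (hF : Fus E) {Γ : Subgroup (Au R)} (H : Hy E Γ y' y) (k : ι') :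
    (Nat.card (E.N0 (y' k)) : ℤ) = Nat.card R'.W * ∑ i, γ i k ^ 2 := by
  classical
  have h0 : (Nat.card R'.W : ℂ) ≠ 0 := Nat.cast_ne_zero.2 Nat.card_pos.ne'
  have h1 : ∀ u u', ∑ i, y i (E.el u) * y i (E.el u') = ∑ g : R.W, if E.el u' * R.ψ g = g * E.el u then (1 : ℂ) else 0 :=
    fun u u' => by
      rw [C.fam.pars _ (mem_WJ_univ _ _) _ (mem_WJ_univ _ _), sum_boole, ← Fintype.card_subtype, ← Nat.card_eq_fintype_card]
      exact congrArg _ (Nat.card_eq_of_bijective (fun g => ⟨g.1, g.2⟩)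
        ⟨fun a b e => Subtype.ext (Subtype.ext (Subtype.mk.inj e)), fun g => ⟨⟨⟨g.1, mem_WJ_univ _ _⟩, g.2⟩, rfl⟩⟩)
  have h2 : ∀ g : R.W, ∑ u, ∑ u', y' k u * y' k u' * (if E.el u' * R.ψ g = g * E.el u then (1 : ℂ) else 0) =
      if g ∈ E.N0 (y' k) then (Nat.card R'.W : ℂ) else 0 := fun g => by
    by_cases hg : SemidirectProduct.inl g ∈ E.Nh
    · obtain ⟨l, hl⟩ := H.st' _ hg (one_mem Γ) k
      have h3 : ∀ u, ∑ u', y' k u * y' k u' * (if E.el u' * R.ψ g = g * E.el u then (1 : ℂ) else 0) = y' k u * y' l u :=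
        fun u => by
          obtain ⟨a, e⟩ := (hg _).1 ⟨u, rfl⟩
          rw [sum_eq_single a, ← hl.eq e.symm, e, ac_inl, inv_mul_cancel_right, if_pos rfl, mul_one]
          · exact fun b _ hb => by
              rw [if_neg fun e' => hb (E.el_inj (by rw [e, ac_inl, ← e', mul_inv_cancel_right])), mul_zero]
          · exact fun h => absurd (mem_univ a) h
      rw [sum_congr rfl fun u _ => h3 u, C.ort]
      exact if_congr ⟨fun e => by subst e; exact hl, fun h => H.inj' (Emb.Rl.uniq h hl)⟩ rfl rfl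
    · rw [if_neg fun h => hg h.1]
      exact sum_eq_zero fun u _ => sum_eq_zero fun u' _ => by rw [if_neg fun e => hg (hF g u u' e), mul_zero]
  have h3 : ∑ i, (γ i k * (Nat.card R'.W : ℂ)) ^ 2 = Nat.card (E.N0 (y' k)) * (Nat.card R'.W : ℂ) := by
    simp only [← C.ip, sq, sum_mul_sum, mul_mul_mul_comm (y' k _)]
    rw [sum_comm, sum_congr rfl fun u _ => sum_comm]
    simp only [← mul_sum, h1]
    simp only [mul_sum]
    rw [sum_congr rfl fun u _ => sum_comm, sum_comm, sum_congr rfl fun g _ => h2 g, ← sum_filter, sum_const, nsmul_eq_mul,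
      ← Fintype.card_subtype, Nat.card_eq_fintype_card (α := E.N0 (y' k))]
  refine Int.cast_injective (α := ℂ) (mul_right_cancel₀ h0 ?_)
  push_cast
  rw [← h3, mul_sum, sum_mul]
  exact sum_congr rfl fun i _ => by ring

/-- a complement `H` of the right order -/
theorem cnt_cmp (hF : Fus E) {Γ : Subgroup (Au R)} (Hy : Hy E Γ y' y) (F' : Fam R' y') (k : ι') {H : Type} [Group H] [Finite H]
    (φ : H →* R.W) (h1 : ∀ h, φ h ∈ E.N0 (y' k)) (h2 : ∀ h, φ h ∈ E.j.range → h = 1) (hc : ∑ i, γ i k ^ 2 = Nat.card H) (n : ℂ) :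
    Nat.card {η // η ∈ E.Et (y' k) ∧ η 1 = n} = Nat.card {η : H → ℂ // IsIrrCharacter H η ∧ η 1 = n} :=
  Emb.card_Et hF (F'.inv' k) φ h1 h2 (by have h := C.card_N0 hF Hy k; rw [hc] at h; exact_mod_cast h) n

end Co

example := And.intro @Ort.eq_def @Ort.eq_1

end Cfsg.Agent.MO.Rc
end

-- part: MO/Nr/Sm
section
/-!
# MO/Nr: the family of a small Levi subcoset is the list of the columns of its node (helper47)

* `Sm E nd em` : the node fits the subcoset; `Sm.sum`, `Sm.ip`;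
* `Pp` : every member is proportional to a column; `Sm.pp_lin` (linear characters), `Sm.pp_int` (integral frames);
* `Sm.id` : the members are the columns up to signs, they are orthonormal.
-/

set_option autoImplicit false
set_option linter.unusedSectionVars false

namespace Cfsg.Agent.MO.Rc

open CoxeterSystem Cfsg.Agent.Tits.Core Cfsg.Agent.Tits.Exchange Cfsg.Agent.MO.Crd Cfsg.Agent.LV.W Finset

variable {R R' : RC} {ι ι' : Type} [Fintype ι] [Fintype ι'] {E : Emb R' R} {y' : ι' → R'.W → ℂ} {y : ι → R.W → ℂ}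

/-- the identity of Parseval -/
theorem Fam.pars2 (F : Fam R y) (f g : R.W → ℂ) (hg : ∀ a u, g (a * u * (R.ψ a)⁻¹) = g u) :
    ∑ i, (∑ u, y i u * f u) * (∑ u, y i u * g u) = Nat.card R.W * ∑ u, f u * g u := by
  classical
  have h1 : ∀ u u', ∑ i, y i u * y i u' = ∑ a : R.W, if u' = a * u * (R.ψ a)⁻¹ then (1 : ℂ) else 0 := fun u u' => by
    rw [F.pars _ (mem_WJ_univ _ _) _ (mem_WJ_univ _ _), sum_boole, ← Fintype.card_subtype, ← Nat.card_eq_fintype_card]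
    exact congrArg _ (Nat.card_eq_of_bijective (fun g => ⟨g.1, eq_mul_inv_of_mul_eq g.2⟩)
      ⟨fun a b e => Subtype.ext (Subtype.ext (Subtype.mk.inj e)),
        fun g => ⟨⟨⟨g.1, mem_WJ_univ _ _⟩, mul_eq_of_eq_mul_inv g.2⟩, rfl⟩⟩)
  simp only [sum_mul_sum, mul_mul_mul_comm (y _ _) (f _)]
  rw [sum_comm, sum_congr rfl fun u _ => sum_comm]
  simp only [← sum_mul, h1]
  simp only [sum_mul, ite_mul, one_mul, zero_mul]
  rw [sum_congr rfl fun u _ => sum_comm]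
  simp only [sum_ite_eq', mem_univ, if_true, hg, sum_const, card_univ, nsmul_eq_mul, Nat.card_eq_fintype_card, mul_sum]

/-- all norms are equal -/
def nuOK (nd : Nd) : Bool := allLt nd.K fun φ => decide (nd.ν φ = nd.ν 0)

/-- the node fits the subcoset -/
structure Sm (E : Emb R' R) (nd : Nd) (em : ℕ → R.I) : Prop where
  G : nd.Good
  F : Fit R.cs R.h R.ψ nd.toTy em (Set.range E.π) E.w
  nu : nuOK nd = true
  fus : Fus E

/-- every member is proportional to a column -/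
def Pp (E : Emb R' R) (nd : Nd) (em : ℕ → R.I) (y' : ι' → R'.W → ℂ) : Prop :=
  ∀ k, ∃ φ < nd.K, ∃ t : ℂ, ∀ l < nd.K, E.ex (y' k) (el R.cs nd em E.w l) = t * nd.X φ l

/-- the members are columns -/
structure Cl (E : Emb R' R) (nd : Nd) (em : ℕ → R.I) (y' : ι' → R'.W → ℂ) (φ : ι' → ℕ) : Prop where
  lt : ∀ k, φ k < nd.K
  val : ∀ k, ∃ ε, Sn ε ∧ ∀ l < nd.K, E.ex (y' k) (el R.cs nd em E.w l) = ε * nd.X (φ k) l
  inj : Function.Injective φ
  ort : Ort y'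

/-- the sign of a word -/
def wsg (r : ℕ) (t : List ℤ) (f : ℕ) : ℕ → ℤ :=
  Nat.rec (fun _ => 1) (fun _ ih n => if n ≤ 1 then 1 else ih (n / 16) * if n % 16 < r then nth 1 t (n % 16) else 1) f

/-- all lists of signs -/
def sgs (n : ℕ) : List (List ℤ) := Nat.rec [[]] (fun _ ih => ih.flatMap fun l => [1 :: l, -1 :: l]) n

theorem mem_sgs {l : List ℤ} (h : ∀ x ∈ l, x = 1 ∨ x = -1) : l ∈ sgs l.length := by
  induction l with
  | nil => exact List.mem_singleton.2 rfl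
  | cons a l ih =>
    refine List.mem_flatMap.2 ⟨l, ih fun x hx => h x (List.mem_cons_of_mem _ hx), ?_⟩
    rcases h a List.mem_cons_self with rfl | rfl <;> simp

/-- the letters commute, the invariant linear characters are columns -/
def linOK (nd : Nd) : Bool :=
  allLt nd.r (fun a => allLt nd.r fun b =>
    Nat.beq (step nd.tab a (step nd.tab b nd.n0)) (step nd.tab b (step nd.tab a nd.n0))) &&
  (sgs nd.r).all fun t => !(allLt nd.r fun a => decide (nth 1 t (nd.σ a) = nth 1 t a)) ||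
    (List.range nd.K).any fun φ => allLt nd.K fun l => decide (wsg nd.r t 256 (nd.e l) = nd.X φ l)

/-- the coordinates are integral combinations of the values and of the coordinate `0` -/
def intOK (nd : Nd) (β : List (List ℤ)) : Bool :=
  allLt nd.K fun φ => allLt nd.K fun φ' => decide (φ = 0) || decide (φ' = 0) ||
    decide ((sumLt nd.K fun l => ga β φ l * nd.X φ' l) = if φ' = φ then 1 else 0)

theorem int_frame {K : ℕ} {a : ι → ℕ → ℤ} (h : ∀ φ < K, ∀ φ' < K, ∑ i, a i φ * a i φ' = if φ' = φ then 1 else 0) (i : ι)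
    {φ φ' : ℕ} (hφ : φ < K) (hφ' : φ' < K) (h1 : a i φ ≠ 0) (h2 : φ' ≠ φ) : a i φ' = 0 := by
  classical
  have h3 := h φ hφ φ hφ
  have h4 := h φ hφ φ' hφ'
  rw [if_pos rfl, ← add_sum_erase _ _ (mem_univ i)] at h3
  have h5 := mul_self_pos.2 h1
  have h6 := sum_nonneg fun k (_ : k ∈ univ.erase i) => mul_self_nonneg (a k φ)
  have h7 := (sum_eq_zero_iff_of_nonneg fun k (_ : k ∈ univ.erase i) => mul_self_nonneg (a k φ)).1 (by omega)
  rw [if_neg h2, sum_eq_single i (fun k _ hk => by rw [mul_self_eq_zero.1 (h7 k (by simp only [hk, _root_.Finset.mem_erase, _root_.ne_eq, _root_.not_false_eq_true, _root_.Finset.mem_univ, _root_.and_self])), zero_mul])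
    fun e => absurd (mem_univ i) e] at h4
  exact (mul_eq_zero.1 h4).resolve_left h1

namespace Sm

variable {nd : Nd} {em : ℕ → R.I} (S : Sm E nd em)
include S

theorem pre (l : ℕ) : ∃ u, E.el u = el R.cs nd em E.w l :=
  let ⟨u, e⟩ := E.range_j.ge (S.F.wd_mem (nd.e l)); ⟨u, congrArg (· * E.w) e⟩

theorem inv {f : R'.W → ℂ} (hf : ∀ g u, f (g * u * (R'.ψ g)⁻¹) = f u) : _root_.Cfsg.Agent.LV.W.Inv R.cs R.ψ (Set.range E.π) (E.ex f) := fun g hg u => by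
  rw [← (Emb.le_N0 S.fus hf (E.range_j.ge hg)).2 (u * R.ψ g), ac_inl, ← mul_assoc, mul_inv_cancel_right]

theorem cover (u : R'.W) : ∃ l < nd.K, ∀ Y, _root_.Cfsg.Agent.LV.W.Inv R.cs R.ψ (Set.range E.π) Y → Y (E.el u) = Y (el R.cs nd em E.w l) :=
  S.F.cover S.G (E.range_j.le ⟨u, rfl⟩)

theorem sum {Y : R.W → ℂ} (hY : _root_.Cfsg.Agent.LV.W.Inv R.cs R.ψ (Set.range E.π) Y) :
    ∑ u, Y (E.el u) = Nat.card R'.W * ((∑ l ∈ range nd.K, nd.n l * Y (el R.cs nd em E.w l)) / nd.ν 0) := by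
  classical
  let e : R'.W ≃ WJ R.cs (Set.range E.π) := ((MonoidHom.ofInjective E.inj).trans (MulEquiv.subgroupCongr E.range_j)).toEquiv
  rw [Nat.card_congr e, ← S.F.mass S.G hY]
  exact Fintype.sum_equiv e _ _ fun _ => rfl

theorem ip {Y Y' : R.W → ℂ} (hY : _root_.Cfsg.Agent.LV.W.Inv R.cs R.ψ (Set.range E.π) Y) (hY' : _root_.Cfsg.Agent.LV.W.Inv R.cs R.ψ (Set.range E.π) Y') {a b : ℂ} {φ φ' : ℕ}
    (hφ : φ < nd.K) (hφ' : φ' < nd.K) (h : ∀ l < nd.K, Y (el R.cs nd em E.w l) = a * nd.X φ l)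
    (h' : ∀ l < nd.K, Y' (el R.cs nd em E.w l) = b * nd.X φ' l) :
    ∑ u, Y (E.el u) * Y' (E.el u) = if φ' = φ then a * b * Nat.card R'.W else 0 := by
  have h1 := congrArg (Int.cast : ℤ → ℂ) ((S.G.orth hφ).2 φ' hφ')
  have h2 : (nd.ν 0 : ℂ) ≠ 0 := Int.cast_ne_zero.2 (S.G.orth S.G.spec.2.1).1.ne'
  have h3 : ∑ l ∈ range nd.K, nd.n l * (Y (el R.cs nd em E.w l) * Y' (el R.cs nd em E.w l)) =
      a * b * ((∑ l ∈ range nd.K, nd.n l * nd.X φ l * nd.X φ' l : ℤ) : ℂ) := by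
    push_cast
    rw [mul_sum]
    exact sum_congr rfl fun l hl => by rw [h l (mem_range.1 hl), h' l (mem_range.1 hl)]; ring
  rw [S.sum (Y := fun v => Y v * Y' v) fun g hg u => congrArg₂ (· * ·) (hY g hg u) (hY' g hg u), h3, h1,
    of_decide_eq_true (allLt_iff.1 S.nu φ hφ)]
  split_ifs
  · field_simp
  · simp

/-- **the members are the columns** -/
theorem id (F' : Fam R' y') {Γ : Subgroup (Au R)} (H : Hy E Γ y' y) (P : Pp E nd em y') : ∃ φ, Cl E nd em y' φ := by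
  classical
  choose φ h1 t h2 using P
  have h0 : (Nat.card R'.W : ℂ) ≠ 0 := Nat.cast_ne_zero.2 Nat.card_pos.ne'
  have h3 : ∀ k, t k ≠ 0 := fun k e => by
    obtain ⟨u, -, hu⟩ := F'.ne k
    obtain ⟨l, hl, h⟩ := S.cover u
    exact hu (by rw [← E.ex_el (y' k), h _ (S.inv (F'.inv' k)), h2 k l hl, e, zero_mul])
  have h4 : Function.Injective φ := fun k k' e => by
    have h5 : ∀ u, y' k u = t k / t k' * y' k' u := fun u => by
      obtain ⟨l, hl, h⟩ := S.cover u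
      rw [← E.ex_el (y' k), ← E.ex_el (y' k'), h _ (S.inv (F'.inv' k)), h _ (S.inv (F'.inv' k')), h2 k l hl, h2 k' l hl, e,
        ← mul_assoc, div_mul_cancel₀ _ (h3 k')]
    rcases F'.np k k' _ fun u _ => h5 u with h6 | h6
    · exact H.inj' (funext fun u => by rw [h5, h6, one_mul])
    · exact absurd (funext fun u => by rw [h5, h6, neg_one_mul]; rfl) (H.pos' k k')
  have h5 : ∀ k k', ∑ u, y' k u * y' k' u = if k = k' then t k * t k * Nat.card R'.W else 0 := fun k k' => by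
    have h6 := S.ip (S.inv (F'.inv' k)) (S.inv (F'.inv' k')) (h1 k) (h1 k') (h2 k) (h2 k')
    simp only [Emb.ex_el, h4.eq_iff] at h6
    rw [h6]
    by_cases e : k = k'
    · rw [if_pos e, if_pos e.symm, e]
    · rw [if_neg e, if_neg (Ne.symm e)]
  have h6 : ∀ k, t k * t k = 1 := fun k => by
    have h7 := F'.pars2 (y' k) (y' k) (F'.inv' k)
    simp only [h5, if_true] at h7
    rw [sum_eq_single k (fun l _ e => by rw [if_neg e, zero_mul]) fun e => absurd (mem_univ k) e, if_pos rfl] at h7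
    exact mul_right_cancel₀ h0 (mul_right_cancel₀ (mul_ne_zero (mul_ne_zero (h3 k) (h3 k)) h0) (by rw [h7, one_mul]))
  exact ⟨φ, h1, fun k => ⟨t k, mul_self_eq_one_iff.1 (h6 k), h2 k⟩, h4, fun k k' => by
    rw [h5, h6, one_mul]⟩

theorem comm (h : linOK nd = true) (a b : R'.W) : a * b = b * a := by
  simp only [linOK, Bool.and_eq_true, allLt_iff, Nat.beq_eq] at h
  have h1 : ∀ i k, Commute (R'.cs.simple i) (R'.cs.simple k) := fun i k => E.inj (by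
    obtain ⟨c, hc, e⟩ := (S.F.mem _).1 ⟨i, rfl⟩
    obtain ⟨d, hd, e'⟩ := (S.F.mem _).1 ⟨k, rfl⟩
    have h2 := h.1 c hc d hd
    have m1 := simple_mem_WJ R.cs (S.F.em_mem hc)
    have m2 := simple_mem_WJ R.cs (S.F.em_mem hd)
    rw [← cd_one (cs := R.cs) (h := R.h) (em := em) S.G.ok, S.F.step_simple S.G.ok hd (one_mem _),
      S.F.step_simple S.G.ok hc (one_mem _), mul_one, mul_one, S.F.step_simple S.G.ok hc m2, S.F.step_simple S.G.ok hd m1] at h2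
    rw [map_mul, map_mul, E.simple, E.simple, ← e, ← e']
    exact S.F.cd_inj S.G.ok (mul_mem m1 m2) (mul_mem m2 m1) h2)
  show Commute a b
  induction a using R'.cs.simple_induction_left with
  | one => exact Commute.one_left _
  | mul_simple_left w i ih =>
    refine Commute.mul_left ?_ ih
    clear ih
    induction b using R'.cs.simple_induction_left with
    | one => exact Commute.one_right _
    | mul_simple_left w k ih => exact (h1 i k).mul_right ih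

/-- linear characters -/
theorem pp_lin (F' : Fam R' y') (h : linOK nd = true)
    (hy : ∀ k, ∃ (ε : ℂ) (χ : R'.W →* ℂ), Sn ε ∧ (∀ i, Sn (χ (R'.cs.simple i))) ∧ ∀ u, y' k u = ε * χ u) : Pp E nd em y' := by
  classical
  intro k
  obtain ⟨ε, χ, h1, h2, h3⟩ := hy k
  simp only [linOK, Bool.and_eq_true, List.all_eq_true, Bool.or_eq_true, Bool.not_eq_true', List.any_eq_true,
    List.mem_range, allLt_iff, decide_eq_true_eq] at h
  have h4 : ∀ a : Fin nd.r, ∃ (i : R'.I) (s : ℤ), E.π i = em a ∧ (s = 1 ∨ s = -1) ∧ χ (R'.cs.simple i) = s := fun a => by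
    obtain ⟨i, e⟩ := S.F.em_mem a.2
    rcases h2 i with h5 | h5
    exacts [⟨i, 1, e, Or.inl rfl, by simp [h5]⟩, ⟨i, -1, e, Or.inr rfl, by simp [h5]⟩]
  choose p s h5 h6 h7 using h4
  have h8 : ∀ a (ha : a < nd.r), nth 1 (List.ofFn s) a = s ⟨a, ha⟩ := fun a ha => by
    rw [nth_eq, List.getD_eq_getElem _ _ (by simpa using ha), List.getElem_ofFn]
  have h9 : ∀ f n, ∃ u, E.j u = wdF R.cs em nd.r _root_.id f n ∧ χ u = wsg nd.r (List.ofFn s) f n := fun f => by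
    induction f with
    | zero => exact fun _ => ⟨1, map_one _, (map_one _).trans Int.cast_one.symm⟩
    | succ f ih =>
      intro n
      show ∃ u, _ = (if n ≤ 1 then 1 else wdF R.cs em nd.r _root_.id f (n / 16) * sl R.cs em nd.r _root_.id (n % 16)) ∧
        _ = (((if n ≤ 1 then 1 else wsg nd.r (List.ofFn s) f (n / 16) *
          if n % 16 < nd.r then nth 1 (List.ofFn s) (n % 16) else 1 : ℤ)) : ℂ)
      obtain ⟨u, e1, e2⟩ := ih (n / 16)
      unfold sl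
      split_ifs with c1 c2
      · exact ⟨1, map_one _, (map_one _).trans Int.cast_one.symm⟩
      · exact ⟨u * R'.cs.simple (p ⟨_, c2⟩), by rw [map_mul, e1, E.simple, h5]; rfl,
          by rw [map_mul, e2, h7, h8 _ c2, Int.cast_mul]⟩
      · exact ⟨u, by rw [mul_one, e1], by rw [mul_one, e2]⟩
  have h10 := mem_sgs (l := List.ofFn s) fun x hx => by
    obtain ⟨a, rfl⟩ := List.mem_ofFn.1 hx
    exact h6 a
  rw [List.length_ofFn] at h10
  obtain ⟨φ, hφ, h11⟩ := (h.2 _ h10).resolve_left (Bool.not_eq_false _ ▸ allLt_iff.2 fun a ha => decide_eq_true (by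
    have h12 := Ty.σ_lt S.G.ok ha
    have h13 : R'.ψ (R'.cs.simple (p ⟨a, ha⟩)) = R'.cs.simple (p ⟨_, h12⟩) := E.inj (mul_right_cancel (b := E.w) (by
      rw [E.tw, E.simple, E.simple, h5, h5, S.F.tw a ha]))
    have h14 := F'.inv k (R'.cs.simple (p ⟨a, ha⟩)) (mem_WJ_univ _ _) 1 (mem_WJ_univ _ _)
    rw [mul_one, one_mul, h13, h3, h3, h7, h7, mul_right_inj' (by rcases h1 with rfl | rfl <;> simp)] at h14
    rw [h8 a ha, h8 _ h12, Int.cast_injective h14]))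
  refine ⟨φ, hφ, ε, fun l hl => ?_⟩
  obtain ⟨u, e1, e2⟩ := h9 256 (nd.e l)
  rw [← h11 l hl, ← e2, ← h3, ← E.ex_el (y' k), Emb.el, e1]
  rfl

/-- integral frames -/
theorem pp_int (F' : Fam R' y') {β : List (List ℤ)} (h : intOK nd β = true)
    (hY : ∀ φ < nd.K, ∃ Y : R.W → ℂ, (∀ g u, Y (g * u * (R.ψ g)⁻¹) = Y u) ∧ ∀ l < nd.K, Y (el R.cs nd em E.w l) = nd.X φ l) :
    Pp E nd em y' := by
  classical
  have h0 : (Nat.card R'.W : ℂ) ≠ 0 := Nat.cast_ne_zero.2 Nat.card_pos.ne'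
  have hK := S.G.spec.2.1
  have h1 : ∀ k l, ∃ z : ℤ, E.ex (y' k) (el R.cs nd em E.w l) = z := fun k l => by
    obtain ⟨u, e⟩ := S.pre l
    rw [← e, E.ex_el]
    exact F'.int k u (mem_WJ_univ _ _)
  choose z hz using h1
  choose! Y h1 h2 using hY
  have hI : ∀ φ < nd.K, _root_.Cfsg.Agent.LV.W.Inv R.cs R.ψ (Set.range E.π) (Y φ) := fun φ hφ g _ u => by
    rw [← h1 φ hφ g (u * R.ψ g), ← mul_assoc, mul_inv_cancel_right]
  let a : ι' → ℕ → ℚ := fun k => nd.co fun l => (z k l : ℚ)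
  have h3 : ∀ k, ∀ φ < nd.K, ∑ u, y' k u * Y φ (E.el u) = Nat.card R'.W * (a k φ : ℂ) := fun k φ hφ => by
    have h4 := S.sum (Y := fun v => E.ex (y' k) v * Y φ v) fun g hg u => congrArg₂ (· * ·) (S.inv (F'.inv' k) g hg u) (hI φ hφ g hg u)
    simp only [Emb.ex_el] at h4
    rw [h4, ← of_decide_eq_true (allLt_iff.1 S.nu φ hφ)]
    simp only [a, Nd.co]
    push_cast
    exact congrArg (fun x => _ * (x / _)) (sum_congr rfl fun l hl => by rw [hz, h2 φ hφ l (mem_range.1 hl)]; ring)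
  have h4 : ∀ φ < nd.K, ∀ φ' < nd.K, ∑ k, a k φ * a k φ' = if φ' = φ then 1 else 0 := fun φ hφ φ' hφ' => by
    have h5 := F'.pars2 (fun u => Y φ (E.el u)) (fun u => Y φ' (E.el u)) fun g u => by rw [← Emb.ac_j, ac_inl, h1 φ' hφ']
    rw [S.ip (a := 1) (b := 1) (hI φ hφ) (hI φ' hφ') hφ hφ' (by simpa only [_root_.one_mul] using h2 φ hφ) (by simpa only [_root_.one_mul] using h2 φ' hφ')] at h5
    simp only [h3 _ φ hφ, h3 _ φ' hφ', mul_mul_mul_comm (Nat.card R'.W : ℂ) (a _ _ : ℂ), ← mul_sum] at h5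
    refine Rat.cast_injective (α := ℂ) (mul_left_cancel₀ (mul_ne_zero h0 h0) ?_)
    push_cast
    rw [h5]
    split_ifs <;> simp only [_root_.Nat.card_eq_fintype_card, _root_.mul_one, _root_.one_mul, _root_.Rat.cast_one, _root_.MulZeroClass.mul_zero, _root_.Rat.cast_zero]
  have h5 : ∀ k, ∃ n : ℤ, a k 0 = n := by
    obtain ⟨k0, hk0⟩ := F'.one
    obtain ⟨s, s1, s2⟩ : ∃ s : ℤ, s * s = 1 ∧ ∀ u, y' k0 u = s := hk0.elim
      (fun e => ⟨1, rfl, fun u => by simp [e u (mem_WJ_univ _ _)]⟩) fun e => ⟨-1, rfl, fun u => by simp [e u (mem_WJ_univ _ _)]⟩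
    have h6 : a k0 0 = s := by
      refine (S.G.co_eq (a := fun φ => if φ = 0 then (s : ℚ) else 0) (fun l hl => ?_) hK).trans (if_pos rfl)
      obtain ⟨u, e⟩ := S.pre l
      have h7 := hz k0 l
      rw [← e, E.ex_el, s2, Int.cast_inj] at h7
      simp [← h7, hK, (S.G.spec.2.2.2.1 l hl).2]
    have h7 := h4 0 hK 0 hK
    rw [if_pos rfl, ← add_sum_erase _ _ (mem_univ k0), h6, ← Int.cast_mul, s1, Int.cast_one, add_eq_left,
      sum_eq_zero_iff_of_nonneg fun k _ => mul_self_nonneg _] at h7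
    intro k
    by_cases e : k = k0
    exacts [⟨s, e ▸ h6⟩, ⟨0, by simpa using h7 k (by simp only [e, _root_.Finset.mem_erase, _root_.ne_eq, _root_.not_false_eq_true, _root_.Finset.mem_univ, _root_.and_self])⟩]
  have h6 : ∀ k, ∀ l < nd.K, (z k l : ℚ) = ∑ φ ∈ range nd.K, a k φ * nd.X φ l := fun k l hl =>
    S.G.exp (fun l => (z k l : ℚ)) hl
  have h7 : ∀ k, ∀ φ, ∃ n : ℤ, φ < nd.K → a k φ = n := fun k φ => by
    obtain ⟨n, hn⟩ := h5 k
    by_cases e : φ = 0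
    · exact ⟨n, fun _ => e ▸ hn⟩
    refine ⟨∑ l ∈ range nd.K, ga β φ l * z k l - n * ∑ l ∈ range nd.K, ga β φ l * nd.X 0 l, fun hφ => ?_⟩
    have h8 : ∀ φ' ∈ (range nd.K).erase 0, ∑ l ∈ range nd.K, (ga β φ l : ℚ) * (a k φ' * nd.X φ' l) =
        if φ' = φ then a k φ else 0 := fun φ' hφ' => by
      have h9 := allLt_iff.1 (allLt_iff.1 h φ hφ) φ' (mem_range.1 (mem_erase.1 hφ').2)
      simp only [Bool.or_eq_true, decide_eq_true_eq, e, (mem_erase.1 hφ').1, false_or, sumLt_eq] at h9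
      have h10 := congrArg (Int.cast : ℤ → ℚ) h9
      push_cast at h10
      simp only [mul_left_comm _ (a k φ'), ← mul_sum, h10]
      split_ifs with c
      · rw [c, mul_one]
      · rw [mul_zero]
    push_cast
    rw [sum_congr rfl fun l hl => by rw [h6 k l (mem_range.1 hl), mul_sum], sum_comm, ← add_sum_erase _ _ (mem_range.2 hK),
      sum_congr rfl h8, sum_ite_eq', if_pos (mem_erase.2 ⟨e, mem_range.2 hφ⟩), hn]
    simp only [mul_left_comm _ (n : ℚ), ← mul_sum]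
    ring
  choose A hA using h7
  have h8 : ∀ φ < nd.K, ∀ φ' < nd.K, ∑ k, A k φ * A k φ' = if φ' = φ then 1 else 0 := fun φ hφ φ' hφ' => by
    have h9 := h4 φ hφ φ' hφ'
    simp only [hA _ φ hφ, hA _ φ' hφ'] at h9
    exact_mod_cast h9
  intro k
  obtain ⟨φ, hφ, h9⟩ : ∃ φ < nd.K, ∀ φ' < nd.K, φ' ≠ φ → A k φ' = 0 := by
    by_cases e : ∃ φ < nd.K, A k φ ≠ 0
    · obtain ⟨φ, hφ, e⟩ := e
      exact ⟨φ, hφ, fun φ' hφ' => int_frame h8 k hφ hφ' e⟩
    · push Not at e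
      exact ⟨0, hK, fun φ' hφ' _ => e φ' hφ'⟩
  refine ⟨φ, hφ, A k φ, fun l hl => ?_⟩
  have h10 := h6 k l hl
  rw [sum_eq_single φ (fun φ' h1 h2 => by rw [hA k φ' (mem_range.1 h1), h9 φ' (mem_range.1 h1) h2, Int.cast_zero, zero_mul])
    fun e => absurd (mem_range.2 hφ) e, hA k φ hφ] at h10
  rw [hz]
  exact_mod_cast h10

end Sm

example := And.intro @nuOK.eq_1 (And.intro @Pp.eq_1 (And.intro @wsg.eq_1 @sgs.eq_1))
example := And.intro @linOK.eq_1 @intOK.eq_1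

end Cfsg.Agent.MO.Rc
end

-- part: MO/Nr/Mul
section
/-!
# MO/Nr: commutative Weyl groups of type `A`, the members of the family are linear characters up to sign (helper81)

`lin_of_comm`.
-/

set_option autoImplicit false
set_option linter.unusedSectionVars false

namespace Cfsg.Agent.MO.Rc

open CoxeterSystem Cfsg.Agent.Tits.Core Cfsg.Agent.Tits.Exchange Cfsg.Agent.MO.Crd Finset

theorem sn_of_sq {ε : ℂ} (h : ε * ε = 1) : Sn ε := mul_self_eq_one_iff.1 h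

theorem FamK.sq_one {R : RC} {ψ : MulAut R.W} {K : Set R.I} {Λ : Type} [Fintype Λ] {Y : Λ → R.W → ℂ} (H : FamK R ψ K Y)
    (hψ : ∀ g ∈ WJ R.cs K, ψ g ∈ WJ R.cs K) (hc : ∀ a b : R.W, a * b = b * a) {s : R.W} (hs : ∀ w ∈ WJ R.cs K, w = 1 ∨ w = s)
    (l : Λ) : ∀ u ∈ WJ R.cs K, Y l u * Y l u = 1 := by
  classical
  have h0 : ∀ g ∈ WJ R.cs K, ψ g = g := fun g hg => by
    by_cases h : g = 1
    · rw [h, map_one]
    · exact ((hs _ (hψ g hg)).resolve_left (by simpa using h)).trans ((hs g hg).resolve_left h).symm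
  choose! z hz using H.int
  have h1 : ∀ u ∈ WJ R.cs K, ∀ u' ∈ WJ R.cs K, ∑ i, z i u * z i u' = if u' = u then (Nat.card (WJ R.cs K) : ℤ) else 0 :=
    fun u hu u' hu' => Int.cast_injective (α := ℂ) (by
      simp only [Int.cast_sum, Int.cast_mul, ← hz _ _ hu, ← hz _ _ hu', H.pars u hu u' hu', fun g : WJ R.cs K => h0 g g.2,
        hc u', mul_right_inj]
      split_ifs with h <;> simp only [h, _root_.Nat.card_eq_fintype_card, _root_.Fintype.card_subtype_true, _root_.Int.cast_natCast, _root_.Fintype.card_eq_zero, _root_.CharP.cast_eq_zero, _root_.Int.cast_zero])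
  have h2 : ∀ a : ℤ, a ≠ 0 → a * a ≤ 1 → a * a = 1 := fun a h h' => le_antisymm h' (mul_self_pos.2 h)
  suffices h : ∀ u ∈ WJ R.cs K, z l u * z l u = 1 from fun u hu => by rw [hz _ _ hu, ← Int.cast_mul, h u hu, Int.cast_one]
  obtain ⟨u₀, hu₀, h3⟩ := H.ne l
  rw [hz _ _ hu₀, Int.cast_ne_zero] at h3
  have h4 := h1 1 (one_mem _) 1 (one_mem _)
  by_cases h5 : ∀ w ∈ WJ R.cs K, w = 1
  · rw [if_pos rfl, (Subgroup.eq_bot_iff_forall _).2 h5, Subgroup.card_bot] at h4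
    intro u hu
    rw [h5 _ hu]
    rw [h5 _ hu₀] at h3
    exact h2 _ h3 ((single_le_sum (f := fun i => z i 1 * z i 1) (fun i _ => mul_self_nonneg _) (mem_univ l)).trans_eq
      (h4.trans Nat.cast_one))
  push Not at h5
  obtain ⟨t, ht, h5⟩ := h5
  obtain rfl := (hs t ht).resolve_left h5
  have h6 : Nat.card (WJ R.cs K) = 2 := (Nat.card_eq_two_iff' 1).2 ⟨⟨t, ht⟩, fun e => h5 (congrArg Subtype.val e), fun w hw =>
    Subtype.ext ((hs w w.2).resolve_left fun e => hw (Subtype.ext e))⟩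
  obtain ⟨i, hi⟩ := H.one
  have h7 : z i 1 = z i t ∧ z i 1 * z i 1 = 1 := by
    rcases hi with hi | hi
    · have h : ∀ u ∈ WJ R.cs K, z i u = 1 := fun u hu => Int.cast_injective (α := ℂ) (by rw [← hz _ _ hu, hi u hu, Int.cast_one])
      simp [h _ ht, h _ (one_mem _)]
    · have h : ∀ u ∈ WJ R.cs K, z i u = -1 := fun u hu => Int.cast_injective (α := ℂ) (by rw [← hz _ _ hu, hi u hu]; simp)
      simp [h _ ht, h _ (one_mem _)]
  have h8 : z l t * z l t = z l 1 * z l 1 ∧ z l 1 * z l 1 = 1 := by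
    by_cases h : l = i
    · rw [h, ← h7.1]; exact ⟨rfl, h7.2⟩
    have key : ∀ f : Λ → ℤ, f l * f l + f i * f i ≤ ∑ j, f j * f j := fun f => by
      rw [← sum_pair (f := fun j => f j * f j) h]
      exact sum_le_sum_of_subset_of_nonneg (subset_univ _) fun j _ _ => mul_self_nonneg _
    have a1 := h1 t ht t ht
    have a2 := h1 1 (one_mem _) t ht
    rw [if_pos rfl, h6] at a1 h4
    rw [if_neg h5] at a2
    have a3 := key fun j => z j 1 + z j t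
    have a4 := key fun j => z j 1
    rw [show ∑ j, (z j 1 + z j t) * (z j 1 + z j t) = ∑ j, z j 1 * z j 1 + ∑ j, z j t * z j t + 2 * ∑ j, z j 1 * z j t by
      rw [mul_sum, ← sum_add_distrib, ← sum_add_distrib]
      exact sum_congr rfl fun j _ => by ring, a1, a2, h4, ← h7.1] at a3
    have a5 : z l t = -z l 1 := eq_neg_of_add_eq_zero_right (mul_self_eq_zero.1 (le_antisymm (by push_cast at a3; linarith only [a3, h7.2])
      (mul_self_nonneg _)))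
    refine ⟨by rw [a5, neg_mul_neg], h2 _ (fun e => h3 ?_) (by push_cast at h4; linarith only [h4, a4, h7.2])⟩
    rcases hs _ hu₀ with rfl | rfl
    exacts [e, by rw [a5, e, neg_zero]]
  intro u hu
  rcases hs u hu with rfl | rfl
  exacts [h8.2, h8.1.trans h8.2]

theorem exists_gen {R : RC} {ψ : MulAut R.W} {K : Set R.I} {κ : J.Kn} {n : ℕ} (E : Em R.cs ψ K κ n) (hκ : κ = .A ∨ κ = .U)
    (hc : ∀ a b : R.W, a * b = b * a) : ∃ s, s * s = 1 ∧ ∀ w ∈ WJ R.cs K, w = 1 ∨ w = s := by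
  have h1 : n ≤ 2 := by
    by_contra h
    have h2 := congrArg (fun w => ((E.emb w).π ⟨0, by omega⟩ : ℕ)) (hc (R.cs.simple (E.nd 0)) (R.cs.simple (E.nd 1)))
    have h3 := E.simple ⟨0, by omega⟩ ⟨1, by omega⟩ rfl
    have h4 := E.simple ⟨1, by omega⟩ ⟨2, by omega⟩ rfl
    simp only at h3 h4
    simp [h3, h4, LV.Cl.sw, Equiv.swap_apply_def] at h2
  refine ⟨R.cs.simple (E.nd 0), R.cs.simple_mul_simple_self _, fun w hw => Crd.WJ_ind (P := fun w => w = 1 ∨ w = _) (.inl rfl) ?_ hw⟩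
  intro i hi u hu
  obtain ⟨a, ha, rfl⟩ := (E.mem i).1 hi
  obtain rfl : a = 0 := by rcases hκ with rfl | rfl <;> simp only [rk] at ha <;> omega
  rcases hu with rfl | rfl
  exacts [.inr (mul_one _), .inl (R.cs.simple_mul_simple_self _)]

theorem nm_mul {W : Type} [Group W] (hc : ∀ a b : W, a * b = b * a) (ψ : MulAut W) (f : ℕ) (u v : W) :
    nm ψ f (u * v) = nm ψ f u * nm ψ f v := by
  induction f with
  | zero => exact (one_mul _).symm
  | succ f ih => rw [nm_succ, nm_succ, nm_succ, ih, map_mul, mul_assoc, mul_assoc, ← mul_assoc (nm ψ f v), hc (nm ψ f v), mul_assoc]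

/-- **commutative Weyl groups** -/
theorem lin_of_comm (FK : BoxFK) {tabs : List XT} {R : RC} {ι : Type} {y : ι → R.W → ℂ} (hA : TyA R) (hL : LusP tabs mE R y)
    (hc : ∀ a b : R.W, a * b = b * a) (k : ι) :
    ∃ (ε : ℂ) (χ : R.W →* ℂ), Sn ε ∧ (∀ i, Sn (χ (R.cs.simple i))) ∧ ∀ u, y k u = ε * χ u := by
  obtain ⟨C, hC⟩ := hA
  obtain ⟨Λ, _, Y, e, h1, -, h2⟩ := hL C C.n ⟨fun b hb => absurd ((hC b).1.symm.trans hb) (by decide), fun b _ => (hC b).2⟩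
    fun b _ => by rcases (hC b).2 with h | h <;> simp [h, J.Ok]
  obtain ⟨ε, hε, h3⟩ := h2 k
  have key : ∀ b, Y b (e k b) 1 * Y b (e k b) 1 = 1 ∧ ∀ u ∈ WJ R.cs (C.K b), ∀ v ∈ WJ R.cs (C.K b),
      Y b (e k b) 1 * Y b (e k b) (u * v) = Y b (e k b) u * Y b (e k b) v := fun b => by
    have hψ : ∀ g ∈ WJ R.cs (C.K b), (R.ψ ^ C.f b) g ∈ WJ R.cs (C.K b) := fun g => RC.pow_mem _ fun i => (C.st b i).2
    obtain ⟨s, h4, h5⟩ := exists_gen (C.E b (hC b).1) (hC b).2 hc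
    have h6 := (FK R _ _ _ _ _ (C.n b) _ _ hψ (by rcases (hC b).2 with h | h <;> simp [h, J.Ok]) (h1 b (hC b).1)).1.sq_one hψ hc h5 (e k b)
    refine ⟨h6 1 (one_mem _), fun u hu v hv => ?_⟩
    rcases h5 u hu with rfl | rfl
    · rw [one_mul]
    rcases h5 v hv with rfl | rfl
    · rw [mul_one, mul_comm]
    · rw [h4, h6 1 (one_mem _), h6 _ hu]
  have h4 : (∏ b, Y b (e k b) 1) * ∏ b, Y b (e k b) 1 = 1 := by
    rw [← prod_mul_distrib]
    exact prod_eq_one fun b _ => (key b).1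
  let χ : R.W →* ℂ := ⟨⟨fun u => ∏ b, Y b (e k b) 1 * Y b (e k b) (C.N b u), prod_eq_one fun b _ => by rw [C.N_one, (key b).1]⟩,
    fun u v => by
      rw [← prod_mul_distrib]
      refine prod_congr rfl fun b _ => ?_
      rw [mul_mul_mul_comm, (key b).1, one_mul, ← (key b).2 (C.N b u) (C.pr_mem' b _) (C.N b v) (C.pr_mem' b _),
        show C.N b (u * v) = C.N b u * C.N b v from (congrArg (C.pr b) (nm_mul hc _ _ u v)).trans (map_mul _ _ _)]⟩
  refine ⟨ε * ∏ b, Y b (e k b) 1, χ, sn_of_sq ?_, fun i => sn_of_sq (by rw [← map_mul, R.cs.simple_mul_simple_self, map_one]),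
    fun u => ?_⟩
  · rw [mul_mul_mul_comm, h4, mul_one]
    exact mul_self_eq_one_iff.2 hε
  · rw [h3, show χ u = _ from prod_mul_distrib, mul_assoc, ← mul_assoc (∏ b, _), h4, one_mul]

end Cfsg.Agent.MO.Rc
end

-- part: MO/Nr/Node
section
/-!
# MO/Nr: the checks for one entry (helper47)

* `Se` : the members of the two families in the coordinates of the nodes; `se_of`;
* `ent_cyc` : cyclic relative Weyl groups; `ent_act` : an abelian Levi subgroup with explicit complements.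
-/

set_option autoImplicit false
set_option linter.unusedSectionVars false

namespace Cfsg.Agent.MO.Rc

open CoxeterSystem Cfsg.Agent.Tits.Core Cfsg.Agent.Tits.Exchange Cfsg.Agent.Tits.Roots Cfsg.Agent.MO.Crd Cfsg.Agent.LV.W
  Cfsg.Agent.ChevalleyStructure.CoxeterGeom Cfsg.Agent.MO.WT Cfsg.Agent.MO.WC Finset

section Chk

variable (T : XT) (nd : Nd) (D : LV.W.Emb)

/-- the value of the row `u` at the small class `l` -/
def ry (u l : ℕ) : ℤ := T.Y u (Nat.mod (nth 0 D.fus l) 256)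

/-- the multiplicity of the column `φ` in the row `u` -/
def gn (u φ : ℕ) : ℕ := ((sumLt nd.K fun l => nd.n l * nd.X φ l * ry T D u l) / nd.ν 0).natAbs

def baseOK : Bool := embOK T.L.nd nd D && decide (D.io.length = nd.r) && nuOK nd && injOK T.L.nd.toTy

/-- the columns are restrictions -/
def resOK : Bool := allLt nd.K fun φ => (List.range T.nu).any fun u => Nat.blt 0 (T.m u) &&
  (allLt nd.K (fun l => decide (ry T D u l = nd.X φ l)) || allLt nd.K fun l => decide (-ry T D u l = nd.X φ l))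

/-- the multiplicities are the degrees `ds`, the sum of their squares is `c` -/
def degOK (φ c : ℕ) (ds : List ℕ) : Bool :=
  allLt T.nu (fun u => Nat.blt (gn T nd D u φ) 5) && ds.all (fun d => Nat.blt d 5) &&
  allLt 5 (fun n => Nat.beq n 0 ||
    decide ((sumLt T.nu fun u => T.m u * if gn T nd D u φ = n then 1 else 0) = ds.count n)) &&
  decide ((sumLt T.nu fun u => T.m u * (gn T nd D u φ : ℤ) ^ 2) = c)

/-- the columns in one row have the same label -/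
def supOK (b : ℕ → ℕ) : Bool := allLt T.nu fun u => allLt nd.K fun φ => Nat.beq (gn T nd D u φ) 0 ||
  allLt nd.K fun φ' => Nat.beq (gn T nd D u φ') 0 || Nat.beq (b φ) (b φ')

/-- the word permutes the simple roots of the Levi subgroup -/
def permOK (c : ℕ) : Bool := allLt nd.r fun a => (List.range nd.r).any fun a' => allLt T.L.nd.r fun j =>
  Nat.beq (dg (run T.L.nd.tab c (st' T.L.nd.r j)) (D.ι a)) (cond (Nat.beq j (D.ι a')) 65 64)

/-- the powers of a word -/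
def itN (c m : ℕ) : ℕ := Nat.rec T.L.nd.n0 (fun _ N => run T.L.nd.tab c N) m

def cycOK (c e : ℕ) : Bool :=
  supOK T nd D id && permOK T nd D c &&
  Nat.beq (run T.L.nd.tab D.x (run T.L.nd.tbs c T.L.nd.n0)) (run T.L.nd.tab c (run T.L.nd.tab D.x T.L.nd.n0)) &&
  Nat.blt 0 e && Nat.beq (itN T c e) T.L.nd.n0 && allLt e (fun m => Nat.beq m 0 || !Nat.beq (itN T c m) T.L.nd.n0) &&
  allLt nd.K fun φ => degOK T nd D φ e (List.replicate e 1)

/-- the left multiplication by the small class `l` -/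
def clN (l N : ℕ) : ℕ := run D.tbi (nd.e l) (run T.L.nd.tab D.x N)

/-- the word `c` moves the column `a` to the column `b` -/
def mvOK (c a b : ℕ) : Bool := Nat.blt b nd.K && allLt nd.K fun l => (List.range nd.K).any fun l' =>
  decide (nd.X a l' = nd.X b l) &&
    Nat.beq (clN T nd D l' (run T.L.nd.tbs c T.L.nd.n0)) (run T.L.nd.tab c (clN T nd D l T.L.nd.n0))

def actOK (n b c : ℕ → ℕ) (Ls ds : ℕ → List ℕ) : Bool :=
  supOK T nd D b && allLt nd.K fun φ => mvOK T nd D (n φ) φ (b φ) && degOK T nd D φ (c φ) (ds φ) &&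
    (Ls φ).all fun h => permOK T nd D h && mvOK T nd D h (b φ) (b φ)

end Chk

theorem sum_lab {ι : Type} [Fintype ι] {lab : ι → ℕ} {N : ℕ} {m : ℕ → ℕ} (h1 : ∀ i, lab i < N)
    (h2 : ∀ u < N, Nat.card {i // lab i = u} = m u) (f : ℕ → ℤ) : ∑ i, f (lab i) = sumLt N fun u => m u * f u := by
  rw [sumLt_eq, ← sum_fiberwise_of_maps_to' (t := range N) fun i _ => mem_range.2 (h1 i)]
  exact sum_congr rfl fun u hu => by
    rw [sum_const, ← h2 u (mem_range.1 hu), ← Fintype.card_subtype, Nat.card_eq_fintype_card, nsmul_eq_mul]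

variable {R R' : RC} {ι ι' : Type} [Fintype ι] [Fintype ι'] {E : Emb R' R} {y' : ι' → R'.W → ℂ} {y : ι → R.W → ℂ}
  {T : XT} {nd : Nd} {D : LV.W.Emb} {em : ℕ → R.I} {Γ : Subgroup (Au R)}

/-- the subgroup generated by words -/
def clo (R : RC) (em : ℕ → R.I) (r : ℕ) (Ls : List ℕ) : Subgroup R.W := Subgroup.closure {x | ∃ a ∈ Ls, wd R.cs em r a = x}

/-- the subcoset in the coordinates of the nodes -/
structure S0 (E : Emb R' R) (T : XT) (nd : Nd) (D : LV.W.Emb) (em : ℕ → R.I) : Prop where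
  G : T.L.nd.Good
  F : Fit R.cs R.h R.ψ T.L.nd.toTy em Set.univ 1
  ok : baseOK T nd D = true
  w : E.w = wd R.cs em T.L.nd.r D.x
  S : Sm E nd fun i => em (D.ι i)

theorem s0_of (G : T.L.nd.Good) (G' : nd.Good) (F : Fit R.cs R.h R.ψ T.L.nd.toTy em Set.univ 1) (ok : baseOK T nd D = true)
    (hj : E.j.range = WJ R.cs (Lt em D.io)) (hw : ∃ a ∈ WJ R.cs (Lt em D.io), E.w = a * wd R.cs em T.L.nd.r D.x) (hF : Fus E) :
    S0 E T nd D em := by
  have h := ok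
  simp only [baseOK, embOK, Bool.and_eq_true, decide_eq_true_eq] at h
  have h1 := (F.sub G.ok G'.ok h.1.1.1.1).2
  have h2 : {i | ∃ a < nd.r, em (D.ι a) = i} = Lt em D.io := Set.ext fun i => by
    rw [← h.1.1.2]
    refine ⟨fun ⟨a, ha, e⟩ => ⟨_, ?_, e⟩, fun ⟨a, ha, e⟩ => ?_⟩
    · rw [LV.W.Emb.ι, nth_eq, List.getD_eq_getElem _ _ ha]; exact List.getElem_mem _
    · obtain ⟨c, hc, rfl⟩ := List.getElem_of_mem ha
      exact ⟨c, hc, by rw [LV.W.Emb.ι, nth_eq, List.getD_eq_getElem _ _ hc, e]⟩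
  have h3 : Lt em D.io = Set.range E.π := Set.ext fun i =>
    ⟨fun hi => mem_of_simple_mem (h := R.h) (E.range_j ▸ hj ▸ simple_mem_WJ _ hi),
      fun hi => mem_of_simple_mem (h := R.h) (hj ▸ E.range_j ▸ simple_mem_WJ _ hi)⟩
  rw [mul_one, h2, h3] at h1
  obtain ⟨a, ha, e⟩ := hw
  rw [h3] at ha
  have h4 := h1.min a ha
  have h5 := E.min a⁻¹ (inv_mem ha)
  rw [e, inv_mul_cancel_left, h4] at h5
  rw [R.cs.length_eq_zero_iff.1 (show R.cs.length a = 0 by omega), one_mul] at e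
  exact ⟨G, F, ok, e, G', e ▸ h1, h.1.2, hF⟩

namespace S0

variable (S : S0 E T nd D em)
include S

theorem tab : tabOK nd.r T.L.nd.r T.L.nd.AL D.ι D.tbi = true := by
  have h := S.ok
  simp only [baseOK, embOK, fitOK, Bool.and_eq_true] at h
  exact h.1.1.1.1.1

theorem val (hy : Fam R y) (H : TV T R em y) : ∃ lab : ι → ℕ, (∀ i, lab i < T.nu ∧ ∃ ε, Sn ε ∧ ∀ l < nd.K,
    y i (el R.cs nd (fun i => em (D.ι i)) E.w l) = ε * ry T D (lab i) l) ∧ ∀ u < T.nu, Nat.card {i // lab i = u} = T.m u := by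
  obtain ⟨lab, h1, h2⟩ := H
  have h := S.ok
  simp only [baseOK, Bool.and_eq_true] at h
  refine ⟨lab, fun i => ⟨(h1 i).1, ?_⟩, h2⟩
  obtain ⟨ε, h3, h4⟩ := (h1 i).2
  refine ⟨ε, h3, fun l hl => ?_⟩
  obtain ⟨h5, h6⟩ := S.F.fus S.G S.S.G h.1.1.1 (y := y i) (fun g hg u => hy.inv i g hg u (mem_WJ_univ _ _)) hl
  rw [S.w, ← mul_one (wd _ _ _ D.x), h6, h4 _ h5]
  rfl

theorem pp_res (hy : Fam R y) (H : TV T R em y) (F' : Fam R' y') {β : List (List ℤ)} (h : intOK nd β = true)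
    (h' : resOK T nd D = true) : Pp E nd (fun i => em (D.ι i)) y' := by
  obtain ⟨lab, h1, h2⟩ := S.val hy H
  refine S.S.pp_int F' h fun φ hφ => ?_
  simp only [resOK, allLt_iff, List.any_eq_true, List.mem_range, Bool.and_eq_true, Bool.or_eq_true, Nat.blt_eq,
    decide_eq_true_eq] at h'
  obtain ⟨u, hu, h3, h4⟩ := h' φ hφ
  obtain ⟨i, rfl⟩ := (Nat.card_pos_iff.1 (h2 u hu ▸ h3)).1.some
  obtain ⟨ε, h5, h6⟩ := (h1 i).2
  rcases h4 with h4 | h4
  · exact ⟨fun v => ε * y i v, fun g u => by simp only [hy.inv'], fun l hl => by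
      simp only [h6 l hl, ← mul_assoc, h5.sq, one_mul, h4 l hl]⟩
  · exact ⟨fun v => -(ε * y i v), fun g u => by simp only [hy.inv'], fun l hl => by
      simp only [h6 l hl, ← mul_assoc, h5.sq, one_mul, ← h4 l hl, Int.cast_neg]⟩

theorem perm_bot {Ls : List ℕ} (h : ∀ c ∈ Ls, permOK T nd D c = true) {v : R.W} (hv : v ∈ clo R em T.L.nd.r Ls)
    (hJ : v ∈ E.j.range) : v = 1 := by
  have hi : injOK T.L.nd.toTy = true := by
    have h := S.ok
    simp only [baseOK, Bool.and_eq_true] at h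
    exact h.2
  have hι : ∀ a < nd.r, D.ι a < T.L.nd.r := fun a ha => tabOK_lt (Ty.ok_iff S.S.G.ok).1 S.tab ha
  have key : ∀ a < nd.r, ∃ a' < nd.r, rep R.cs R.h v⁻¹ (sr (em (D.ι a))) = sr (em (D.ι a')) := by
    rw [clo, ← Subgroup.mem_toSubmonoid, Subgroup.closure_toSubmonoid_of_finite] at hv
    clear hJ
    induction hv using Submonoid.closure_induction with
    | mem x hx =>
      obtain ⟨c, hc, rfl⟩ := hx
      intro a ha
      have h1 := allLt_iff.1 (h c hc) a ha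
      simp only [List.any_eq_true, List.mem_range, allLt_iff, Nat.beq_eq] at h1
      obtain ⟨a', ha', h1⟩ := h1
      refine ⟨a', ha', funext fun i => ?_⟩
      obtain ⟨j, hj, rfl⟩ := (S.F.mem i).1 trivial
      have h2 := pk_dig (vc_lt S.F S.G.ok j (S.F.wd_mem c)) (hι a ha)
      have h3 := h1 j hj
      rw [← cw_one S.F hi hj, run_cw S.F S.G.ok j c (one_mem _), mul_one, cw] at h3
      rw [h3, vc] at h2
      by_cases e : j = D.ι a'
      · rw [e, Nat.beq_refl, cond_true] at h2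
        rw [e, sr_self]
        omega
      · rw [Bool.eq_false_iff.2 fun h4 => e (Nat.eq_of_beq_eq_true h4), cond_false] at h2
        rw [sr_ne fun h4 => e (em_inj S.F hi hj (hι a' ha') h4)]
        omega
    | one => exact fun a ha => ⟨a, ha, by rw [inv_one, map_one, Module.End.one_apply]⟩
    | mul x z _ _ h1 h2 =>
      intro a ha
      obtain ⟨b, hb, e⟩ := h1 a ha
      obtain ⟨c, hc, e'⟩ := h2 b hb
      exact ⟨c, hc, by rw [mul_inv_rev, rep_mul_apply, e, e']⟩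
  refine S.S.F.eq_one (E.range_j.le hJ) fun a ha => ?_
  obtain ⟨b, -, e⟩ := key a ha
  rw [vv, e]
  simp only [ht, sr, _root_.Finset.sum_pi_single', _root_.Finset.mem_univ, ↓ _root_.reduceIte, _root_.zero_lt_one]

theorem ψ_wd (c : ℕ) : R.ψ (wd R.cs em T.L.nd.r c) = ws R.cs T.L.nd.toTy em c := by simpa using S.F.tw_wd c

theorem clN_cd (l : ℕ) (u : R.W) : clN T nd D l (cd R.cs R.h T.L.nd.toTy em u) =
    cd R.cs R.h T.L.nd.toTy em (el R.cs nd (fun i => em (D.ι i)) E.w l * u) := by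
  have h5 : ∀ f n, wdF R.cs em nd.r D.ι f n = wdF R.cs (fun i => em (D.ι i)) nd.r id f n := fun _ _ => rfl
  rw [clN, S.F.run_cd S.G.ok _ (mem_WJ_univ _ _), run, S.F.runF_cd S.G.ok (Ty.ok_iff S.S.G.ok).1 S.tab _ _ (mem_WJ_univ _ _),
    el, S.w, mul_assoc]
  exact congrArg (fun z => cd R.cs R.h T.L.nd.toTy em (z * _)) (h5 _ _)

end S0

/-- the two families in the coordinates of the nodes -/
structure Se (E : Emb R' R) (T : XT) (nd : Nd) (D : LV.W.Emb) (em : ℕ → R.I) (Γ : Subgroup (Au R)) (y' : ι' → R'.W → ℂ)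
    (y : ι → R.W → ℂ) (φ : ι' → ℕ) (lab : ι → ℕ) (γ : ι → ι' → ℤ) : Prop where
  S : S0 E T nd D em
  C : Cl E nd (fun i => em (D.ι i)) y' φ
  co : Co E y' y γ
  hy : Hy E Γ y' y
  fam : Fam R' y'
  lt : ∀ i, lab i < T.nu
  fib : ∀ u < T.nu, Nat.card {i // lab i = u} = T.m u
  gam : ∀ i k, (γ i k).natAbs = gn T nd D (lab i) (φ k)

theorem S0.se (S : S0 E T nd D em) (hy : Fam R y) (H : TV T R em y) (F' : Fam R' y') (Hy : Hy E Γ y' y)
    (P : Pp E nd (fun i => em (D.ι i)) y') : ∃ φ lab γ, Se E T nd D em Γ y' y φ lab γ := by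
  obtain ⟨lab, h1, h2⟩ := S.val hy H
  obtain ⟨φ, C⟩ := S.S.id F' Hy P
  choose γ hγ using Hy.res
  have co : Co E y' y γ := ⟨C.ort, hy, hγ⟩
  refine ⟨φ, lab, γ, S, C, co, Hy, F', fun i => (h1 i).1, h2, fun i k => ?_⟩
  obtain ⟨ε, h3, h4⟩ := (h1 i).2
  obtain ⟨ε', h5, h6⟩ := C.val k
  have h7 := S.S.sum (Y := fun v => E.ex (y' k) v * y i v) fun g hg u =>
    congrArg₂ (· * ·) (S.S.inv (F'.inv' k) g hg u) (hy.inv i g (mem_WJ_univ _ _) u (mem_WJ_univ _ _))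
  have h8 := (S.S.G.orth S.S.G.spec.2.1).1.ne'
  simp only [Emb.ex_el, co.ip] at h7
  rw [mul_comm, mul_right_inj' (Nat.cast_ne_zero.2 Nat.card_pos.ne'), eq_div_iff (Int.cast_ne_zero.2 h8),
    sum_congr rfl fun l hl => (by rw [h4 l (mem_range.1 hl), h6 l (mem_range.1 hl)]; push_cast; ring :
      _ = ε' * ε * ((nd.n l * nd.X (φ k) l * ry T D (lab i) l : ℤ) : ℂ)), ← mul_sum, ← Int.cast_sum, ← sumLt_eq] at h7
  rw [gn]
  rcases h5.mul h3 with e | e <;> rw [e] at h7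
  · rw [show sumLt _ _ = γ i k * nd.ν 0 by exact_mod_cast (h7.trans (one_mul _)).symm, Int.mul_ediv_cancel _ h8]
  · rw [neg_one_mul, ← neg_eq_iff_eq_neg, ← neg_mul] at h7
    rw [show sumLt _ _ = -γ i k * nd.ν 0 by exact_mod_cast h7.symm, Int.mul_ediv_cancel _ h8, Int.natAbs_neg]

theorem Emb.Ob.trans {f f' f'' : R'.W → ℂ} : E.Ob f f' → E.Ob f' f'' → E.Ob f f'' :=
  fun ⟨n, h⟩ ⟨m, h'⟩ => ⟨n * m, by rw [map_mul]; exact h.trans h'⟩

namespace Se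

variable {φ : ι' → ℕ} {lab : ι → ℕ} {γ : ι → ι' → ℤ} (S : Se E T nd D em Γ y' y φ lab γ)
include S

theorem sup {b : ℕ → ℕ} (h : supOK T nd D b = true) {i : ι} {k k' : ι'} (h1 : γ i k ≠ 0) (h2 : γ i k' ≠ 0) :
    b (φ k) = b (φ k') := by
  simp only [supOK, allLt_iff, Bool.or_eq_true, Nat.beq_eq] at h
  exact (((h _ (S.lt i) _ (S.C.lt k)).resolve_left (S.gam i k ▸ Int.natAbs_ne_zero.2 h1)) _ (S.C.lt k')).resolve_left
    (S.gam i k' ▸ Int.natAbs_ne_zero.2 h2)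

theorem cnt (k : ι') {H : Type} [Group H] [Finite H] (f : H →* R.W) (h1 : ∀ h, f h ∈ E.N0 (y' k))
    (h2 : ∀ h, f h ∈ E.j.range → h = 1) {c : ℕ} {ds : List ℕ} (hd : Nat.card H = c ∧ _root_.Cfsg.Agent.MO.WC.Dg H ds)
    (hc : degOK T nd D (φ k) c ds = true) (n : ℕ) (hn : 0 < n) :
    Nat.card {i // (γ i k).natAbs = n} = Nat.card {η // η ∈ E.Et (y' k) ∧ η 1 = n} := by
  simp only [degOK, Bool.and_eq_true, allLt_iff, List.all_eq_true, Nat.blt_eq, Bool.or_eq_true, Nat.beq_eq,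
    decide_eq_true_eq] at hc
  obtain ⟨⟨⟨h3, h4⟩, h5⟩, h6⟩ := hc
  rw [S.co.cnt_cmp S.S.S.fus S.hy S.fam k f h1 h2 (by
    rw [hd.1, ← h6, ← sum_lab S.lt S.fib fun u => (gn T nd D u (φ k) : ℤ) ^ 2]
    exact sum_congr rfl fun i _ => by rw [← S.gam, Int.natAbs_sq]), hd.2]
  simp only [S.gam]
  by_cases e : n < 5
  · have h7 := (h5 n e).resolve_left hn.ne'
    rw [← sum_lab S.lt S.fib fun u => if gn T nd D u (φ k) = n then 1 else 0, sum_boole, ← Fintype.card_subtype,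
      ← Nat.card_eq_fintype_card] at h7
    exact_mod_cast h7
  · rw [List.count_eq_zero.2 fun h => e (h4 n h)]
    exact Nat.card_eq_zero.2 (Or.inl ⟨fun i => e (i.2 ▸ h3 _ (S.lt i.1))⟩)

theorem cyc {c e : ℕ} (h : cycOK T nd D c e = true) : Core0 E y' y := by
  simp only [cycOK, Bool.and_eq_true, allLt_iff, Nat.blt_eq, Bool.or_eq_true, Nat.beq_eq, Bool.not_eq_true'] at h
  obtain ⟨⟨⟨⟨⟨⟨h1, h2⟩, h3⟩, h4⟩, h5⟩, h6⟩, h7⟩ := h
  have F := S.S.F
  have G := S.S.G.ok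
  have h8 : ∀ m, itN T c m = cd R.cs R.h T.L.nd.toTy em (wd R.cs em T.L.nd.r c ^ m) := fun m => by
    induction m with
    | zero => rw [pow_zero, cd_one G]; rfl
    | succ m ih => rw [pow_succ', ← F.run_cd G _ (mem_WJ_univ _ _), ← ih]; rfl
  have h9 : clo R em T.L.nd.r [c] = Subgroup.zpowers (wd R.cs em T.L.nd.r c) := by
    rw [Subgroup.zpowers_eq_closure, clo]
    exact congrArg _ (Set.ext fun x => by simp [eq_comm])
  have h10 : Nat.card (clo R em T.L.nd.r [c]) = e := by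
    rw [h9, Nat.card_zpowers, orderOf_eq_iff h4]
    refine ⟨F.cd_inj G (mem_WJ_univ _ _) (mem_WJ_univ _ _) (by rw [← h8, h5, cd_one G]), fun m hm h0 e => ?_⟩
    have h11 := (h6 m hm).resolve_left h0.ne'
    rw [h8, e, cd_one G, Nat.beq_refl] at h11
    exact Bool.noConfusion h11
  rw [F.runs_one G, F.run_one G, F.run_cd G _ (mem_WJ_univ _ _), F.run_cd G _ (mem_WJ_univ _ _), ← S.S.ψ_wd, ← S.S.w,
    ← E.el_one] at h3
  have h11 := S.S.S.fus _ _ _ (F.cd_inj G (mem_WJ_univ _ _) (mem_WJ_univ _ _) h3)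
  refine S.co.core0 (fun i k k' a b => S.C.inj (S.sup h1 a b) ▸ Emb.Ob.refl _) fun k =>
    S.cnt k (clo R em T.L.nd.r [c]).subtype (fun v => (Subgroup.closure_le _).2 ?_ v.2)
      (fun v hv => Subtype.ext (S.S.perm_bot (by simpa using h2) v.2 hv))
      ⟨h10, h10 ▸ dg_comm fun a b => Subtype.ext ?_⟩ (h7 _ (S.C.lt k))
  · rintro _ ⟨a, ha, rfl⟩
    obtain ⟨l, hl⟩ := S.hy.st' _ h11 (one_mem Γ) k
    obtain ⟨i, hi⟩ : ∃ i, γ i k ≠ 0 := by
      by_contra h12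
      push Not at h12
      have h13 := S.co.card_N0 S.S.S.fus S.hy k
      simp only [h12, Nat.card_pos.ne', _root_.Nat.card_eq_fintype_card, _root_.ne_eq, _root_.OfNat.ofNat_ne_zero, _root_.not_false_eq_true, _root_.zero_pow, _root_.Finset.sum_const_zero, _root_.MulZeroClass.mul_zero, _root_.Int.natCast_eq_zero] at h13
    obtain rfl : k = l := S.C.inj (S.sup h1 hi (S.co.eq_of_Ob i ⟨_, hl⟩ ▸ hi))
    rw [List.mem_singleton.1 ha]
    exact hl
  · obtain ⟨m, e1⟩ := h9.le a.2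
    obtain ⟨n, e2⟩ := h9.le b.2
    rw [Subgroup.coe_mul, Subgroup.coe_mul, ← e1, ← e2]
    exact zpow_mul_comm _ _ _

theorem mv {c b : ℕ} {k : ι'} (h : mvOK T nd D c (φ k) b = true) :
    ∃ k', φ k' = b ∧ E.Rl (SemidirectProduct.inl (wd R.cs em T.L.nd.r c)) (y' k) (y' k') := by
  simp only [mvOK, Bool.and_eq_true, allLt_iff, Nat.blt_eq, List.any_eq_true, List.mem_range, Nat.beq_eq,
    decide_eq_true_eq] at h
  have F := S.S.F
  have G := S.S.G.ok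
  have h1 : ∀ l < nd.K, ∃ l' < nd.K, nd.X (φ k) l' = nd.X b l ∧ el R.cs nd (fun i => em (D.ι i)) E.w l' *
      R.ψ (wd R.cs em T.L.nd.r c) = wd R.cs em T.L.nd.r c * el R.cs nd (fun i => em (D.ι i)) E.w l := fun l hl => by
    obtain ⟨l', h2, h3, h4⟩ := h.2 l hl
    rw [F.runs_one G, ← cd_one (cs := R.cs) (h := R.h) (em := em) G, S.S.clN_cd, S.S.clN_cd, mul_one,
      F.run_cd G _ (mem_WJ_univ _ _), ← S.S.ψ_wd] at h4
    exact ⟨l', h2, h3, F.cd_inj G (mem_WJ_univ _ _) (mem_WJ_univ _ _) h4⟩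
  obtain ⟨l', -, -, h2⟩ := h1 0 S.S.S.G.spec.2.1
  obtain ⟨u, e⟩ := S.S.S.pre 0
  obtain ⟨u', e'⟩ := S.S.S.pre l'
  obtain ⟨k', hk⟩ := S.hy.st' _ (S.S.S.fus _ u u' (by rw [e, e', h2])) (one_mem Γ) k
  refine ⟨k', by_contra fun hn => ?_, hk⟩
  obtain ⟨ε, -, h3⟩ := S.C.val k
  obtain ⟨ε', -, h4⟩ := S.C.val k'
  have h5 := S.S.S.ip (S.S.S.inv (S.fam.inv' k')) (S.S.S.inv (S.fam.inv' k')) h.1 (S.C.lt k') (a := ε) (fun l hl => by
    obtain ⟨m, h6, h7, h8⟩ := h1 l hl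
    rw [← hk.2, ac_inl, ← h8, mul_inv_cancel_right, h3 m h6, h7]) h4
  simp only [Emb.ex_el, S.C.ort k', if_true, if_neg hn] at h5
  exact Nat.cast_ne_zero.2 Nat.card_pos.ne' h5

theorem act {n b c : ℕ → ℕ} {Ls ds : ℕ → List ℕ} (h : actOK T nd D n b c Ls ds = true)
    (hd : ∀ a < nd.K, Nat.card (clo R em T.L.nd.r (Ls a)) = c a ∧ _root_.Cfsg.Agent.MO.WC.Dg (clo R em T.L.nd.r (Ls a)) (ds a)) : Core0 E y' y := by
  simp only [actOK, Bool.and_eq_true, allLt_iff, List.all_eq_true] at h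
  choose s h1 h2 using fun k => S.mv (h.2 _ (S.C.lt k)).1.1
  refine S.co.core0 (fun i k k' a a' => Emb.Ob.trans ⟨_, h2 k⟩ (Emb.Ob.symm ?_)) fun k =>
    S.cnt k ((MulAut.conj (wd R.cs em T.L.nd.r (n (φ k)))).toMonoidHom.comp (clo R em T.L.nd.r (Ls (φ k))).subtype)
      (fun v => ?_) (fun v hv => Subtype.ext (S.S.perm_bot (fun a ha => ((h.2 _ (S.C.lt k)).2 a ha).1) v.2 ?_))
      (hd _ (S.C.lt k)) (h.2 _ (S.C.lt k)).1.2
  · rw [S.C.inj ((h1 k).trans ((S.sup h.1 a a').trans (h1 k').symm))]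
    exact ⟨_, h2 k'⟩
  · have h3 : (v : R.W) ∈ E.N0 (y' (s k)) := (Subgroup.closure_le _).2 (by
      rintro _ ⟨a, ha, rfl⟩
      obtain ⟨l, h4, h5⟩ := S.mv (k := s k) (h1 k ▸ ((h.2 _ (S.C.lt k)).2 a ha).2)
      rw [S.C.inj h4] at h5
      exact h5) v.2
    show E.Rl (SemidirectProduct.inl (_ * _ * _⁻¹)) _ _
    rw [map_mul, map_mul, map_inv]
    exact ((h2 k).trans h3).trans (h2 k).symm
  · have h3 := Emb.conj_mem (n := (wd R.cs em T.L.nd.r (n (φ k)))⁻¹) (by rw [map_inv]; exact inv_mem (h2 k).1) hv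
    simpa only [mul_assoc, _root_.MonoidHom.mem_range, _root_.MulEquiv.toMonoidHom_eq_coe, _root_.MonoidHom.coe_comp, _root_.MonoidHom.coe_coe, _root_.Subgroup.coe_subtype, _root_.Function.comp_apply, _root_.MulAut.conj_apply, _root_.inv_mul_cancel_left, _root_.inv_inv, _root_.inv_mul_cancel, _root_.mul_one] using h3

end Se

/-- the common part -/
theorem ent_of (hT : T ∈ tabs) (G' : nd.Good) (ok : baseOK T nd D = true)
    (P : (BoxFK ∧ linOK nd = true) ∨ ∃ β, (intOK nd β && resOK T nd D) = true)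
    (h : ∀ {R R' : RC} {ι ι' : Type} [Fintype ι] [Fintype ι'] {E : Emb R' R} {y' : ι' → R'.W → ℂ} {y : ι → R.W → ℂ}
      {em : ℕ → R.I} {Γ : Subgroup (Au R)} {φ : ι' → ℕ} {lab : ι → ℕ} {γ : ι → ι' → ℤ},
      Se E T nd D em Γ y' y φ lab γ → Core0 E y' y) : Ent tabs T D.io D.x := by
  intro R' R E v Γ ι' ι _ _ y' y em F hj hw hx hA h1 h2 F' F1 H
  have S := s0_of (tabs_good T hT) G' F ok hj hw hx.fus
  obtain ⟨φ, lab, γ, S'⟩ := S.se F1 (tv_of hT F h2) F' H (P.elim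
    (fun P => S.S.pp_lin F' P.2 (lin_of_comm P.1 hA h1 (S.S.comm P.2)))
    fun ⟨β, P⟩ => S.pp_res F1 (tv_of hT F h2) F' (Bool.and_eq_true_iff.1 P).1 (Bool.and_eq_true_iff.1 P).2)
  exact h S'

/-- **abelian Levi subgroup, cyclic relative Weyl group** -/
theorem ent_lin (FK : BoxFK) (hT : T ∈ tabs) (G' : nd.Good) (c e : ℕ)
    (ok : (baseOK T nd D && linOK nd && cycOK T nd D c e) = true) : Ent tabs T D.io D.x := by
  simp only [Bool.and_eq_true] at ok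
  exact ent_of hT G' ok.1.1 (Or.inl ⟨FK, ok.1.2⟩) fun S => S.cyc ok.2

/-- **integral frames, cyclic relative Weyl group** -/
theorem ent_int (hT : T ∈ tabs) (G' : nd.Good) (β : List (List ℤ)) (c e : ℕ)
    (ok : (baseOK T nd D && (intOK nd β && resOK T nd D) && cycOK T nd D c e) = true) : Ent tabs T D.io D.x := by
  rw [Bool.and_eq_true, Bool.and_eq_true] at ok
  exact ent_of hT G' ok.1.1 (Or.inr ⟨β, ok.1.2⟩) fun S => S.cyc ok.2

/-- **abelian Levi subgroup, explicit complements** -/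
theorem ent_act (FK : BoxFK) (hT : T ∈ tabs) (G' : nd.Good) (n b c : ℕ → ℕ) (Ls ds : ℕ → List ℕ)
    (ok : (baseOK T nd D && linOK nd && actOK T nd D n b c Ls ds) = true)
    (hd : ∀ a < nd.K, ∀ {R : RC} {em : ℕ → R.I}, Fit R.cs R.h R.ψ T.L.nd.toTy em Set.univ 1 →
      Nat.card (clo R em T.L.nd.r (Ls a)) = c a ∧ _root_.Cfsg.Agent.MO.WC.Dg (clo R em T.L.nd.r (Ls a)) (ds a)) : Ent tabs T D.io D.x := by
  simp only [Bool.and_eq_true] at ok
  exact ent_of hT G' ok.1.1 (Or.inl ⟨FK, ok.1.2⟩) fun S => S.act ok.2 fun a ha => hd a ha S.S.F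

example := And.intro @ry.eq_1 (And.intro @gn.eq_1 (And.intro @baseOK.eq_1 @resOK.eq_1))
example := And.intro @degOK.eq_1 (And.intro @supOK.eq_1 (And.intro @permOK.eq_1 @itN.eq_1))
example := And.intro @cycOK.eq_1 (And.intro @clN.eq_1 (And.intro @mvOK.eq_1 (And.intro @actOK.eq_1 @clo.eq_1)))

end Cfsg.Agent.MO.Rc
end

-- part: MO/WT/T7
section
/-! MO/WT: generated data (helper27; tools/P3/h27/wt3.py) -/

set_option autoImplicit false
set_option maxRecDepth 100000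

namespace Cfsg.Agent.MO.WT

open Cfsg.Agent.LV.W

private noncomputable def _root_.Cfsg.Agent.LsF.f83f0b1_0 : {f // @Cfsg.Agent.LV.W.allLt = f} := ⟨_, by first | (delta Cfsg.Agent.LV.W.allLt; rewrite [Cfsg.Agent.LsF.and_eq]; exact rfl) | exact rfl⟩
private noncomputable def _root_.Cfsg.Agent.LsF.f83f0b1_1 : {f // @Cfsg.Agent.MO.WT.injOK = f} := ⟨_, by first | (delta Cfsg.Agent.MO.WT.injOK; rewrite [Cfsg.Agent.LsF.f83f0b1_0.2, Cfsg.Agent.LsF.or_eq, Cfsg.Agent.LsF.instIDecEq_eq, Cfsg.Agent.LsF.dNot_eq, Cfsg.Agent.LsF.decide_eq]; exact rfl) | exact rfl⟩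
private noncomputable def _root_.Cfsg.Agent.LsF.f83f0b1_2 : {f // @Cfsg.Agent.LV.W.all2 = f} := ⟨_, by first | (delta Cfsg.Agent.LV.W.all2; rewrite [Cfsg.Agent.LsF.and_eq, Cfsg.Agent.LsF.isEmpty_eq]; (try delta List.casesOn); exact rfl) | exact rfl⟩
private noncomputable def _root_.Cfsg.Agent.LsF.f83f0b1_3 : {f // @Cfsg.Agent.LV.W.runF = f} := ⟨_, by first | (delta Cfsg.Agent.LV.W.runF; rewrite [Cfsg.Agent.LsF.cond_eq]; exact rfl) | exact rfl⟩
private noncomputable def _root_.Cfsg.Agent.LsF.f83f0b1_4 : {f // @Cfsg.Agent.LV.W.run = f} := ⟨_, by first | (delta Cfsg.Agent.LV.W.run; rewrite [Cfsg.Agent.LsF.f83f0b1_3.2]; exact rfl) | exact rfl⟩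
private noncomputable def _root_.Cfsg.Agent.LsF.f83f0b1_5 : {f // @Cfsg.Agent.MO.WT.st' = f} := ⟨_, by first | (delta Cfsg.Agent.MO.WT.st'; rewrite [Cfsg.Agent.LsF.cond_eq]; exact rfl) | exact rfl⟩
private noncomputable def _root_.Cfsg.Agent.LsF.f83f0b1_6 : {f // @Cfsg.Agent.MO.WT.mem = f} := ⟨_, by first | (delta Cfsg.Agent.MO.WT.mem; rewrite [Cfsg.Agent.LsF.cond_eq]; exact rfl) | exact rfl⟩
private noncomputable def _root_.Cfsg.Agent.LsF.f83f0b1_7 : {f // @Cfsg.Agent.MO.WT.ndp = f} := ⟨_, by first | (delta Cfsg.Agent.MO.WT.ndp; rewrite [Cfsg.Agent.LsF.f83f0b1_6.2, Cfsg.Agent.LsF.cond_eq]; exact rfl) | exact rfl⟩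
private noncomputable def _root_.Cfsg.Agent.LsF.f83f0b1_8 : {f // @Cfsg.Agent.MO.WT.orbOK = f} := ⟨_, by first | (delta Cfsg.Agent.MO.WT.orbOK; rewrite [Cfsg.Agent.LsF.f83f0b1_1.2, Cfsg.Agent.LsF.f83f0b1_2.2, Cfsg.Agent.LsF.f83f0b1_4.2, Cfsg.Agent.LsF.f83f0b1_5.2, Cfsg.Agent.LsF.f83f0b1_6.2, Cfsg.Agent.LsF.f83f0b1_7.2, Cfsg.Agent.LsF.f83f0b1_0.2, Cfsg.Agent.LsF.and_eq, Cfsg.Agent.LsF.all_eq]; exact rfl) | exact rfl⟩
private noncomputable def _root_.Cfsg.Agent.LsF.f83f0b1_9 : {f // @Cfsg.Agent.LV.W.sumAbs = f} := ⟨_, by first | (delta Cfsg.Agent.LV.W.sumAbs; rewrite [Cfsg.Agent.LsF.natAbs_eq]; exact rfl) | exact rfl⟩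
private noncomputable def _root_.Cfsg.Agent.LsF.f83f0b1_10 : {f // @Cfsg.Agent.LV.W.dotP = f} := ⟨_, by first | (delta Cfsg.Agent.LV.W.dotP; rewrite [Cfsg.Agent.LsF.iadd_pat, Cfsg.Agent.LsF.imul_pat]; exact rfl) | exact rfl⟩
private noncomputable def _root_.Cfsg.Agent.LsF.f83f0b1_11 : {f // @Cfsg.Agent.LV.W.pkz = f} := ⟨_, by first | (delta Cfsg.Agent.LV.W.pkz; rewrite [Cfsg.Agent.LsF.iadd_pat, Cfsg.Agent.LsF.imul_pat]; exact rfl) | exact rfl⟩
private noncomputable def _root_.Cfsg.Agent.LsF.f83f0b1_12 : {f // @Cfsg.Agent.LV.W.linP = f} := ⟨_, by first | (delta Cfsg.Agent.LV.W.linP; rewrite [Cfsg.Agent.LsF.f83f0b1_9.2, Cfsg.Agent.LsF.f83f0b1_10.2, Cfsg.Agent.LsF.f83f0b1_11.2, Cfsg.Agent.LsF.nadd_pat, Cfsg.Agent.LsF.nmul_pat, Cfsg.Agent.LsF.icast_pat, Cfsg.Agent.LsF.and_eq, Cfsg.Agent.LsF.all_eq, Cfsg.Agent.LsF.map_eq, Cfsg.Agent.LsF.instIDecEq_eq, Cfsg.Agent.LsF.idecLt_eq, Cfsg.Agent.LsF.length_eq,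 Cfsg.Agent.LsF.decide_eq]; exact rfl) | exact rfl⟩
private noncomputable def _root_.Cfsg.Agent.LsF.f83f0b1_13 : {f // @Cfsg.Agent.LV.W.Nd.lin = f} := ⟨_, by first | (delta Cfsg.Agent.LV.W.Nd.lin; rewrite [Cfsg.Agent.LsF.f83f0b1_12.2]; exact rfl) | exact rfl⟩
private noncomputable def _root_.Cfsg.Agent.LsF.f83f0b1_14 : {f // @Cfsg.Agent.MO.WT.zm = f} := ⟨_, by first | (delta Cfsg.Agent.MO.WT.zm; rewrite [Cfsg.Agent.LsF.imul_pat]; (try delta List.casesOn); exact rfl) | exact rfl⟩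
private noncomputable def _root_.Cfsg.Agent.LsF.f83f0b1_15 : {f // @Cfsg.Agent.MO.WT.valOK = f} := ⟨_, by first | (delta Cfsg.Agent.MO.WT.valOK; rewrite [Cfsg.Agent.LsF.f83f0b1_13.2, Cfsg.Agent.LsF.f83f0b1_14.2]; exact rfl) | exact rfl⟩
private noncomputable def _root_.Cfsg.Agent.LsF.f83f0b1_16 : {f // @Cfsg.Agent.MO.WT.fixN = f} := ⟨_, by first | (delta Cfsg.Agent.MO.WT.fixN; rewrite [Cfsg.Agent.LsF.cond_eq]; exact rfl) | exact rfl⟩
private noncomputable def _root_.Cfsg.Agent.LsF.f83f0b1_17 : {f // @Cfsg.Agent.LV.W.sumLt = f} := ⟨_, by first | (delta Cfsg.Agent.LV.W.sumLt; rewrite [Cfsg.Agent.LsF.iadd_pat]; exact rfl) | exact rfl⟩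
private noncomputable def _root_.Cfsg.Agent.LsF.f83f0b1_18 : {f // @Cfsg.Agent.MO.WT.trN = f} := ⟨_, by first | (delta Cfsg.Agent.MO.WT.trN; rewrite [Cfsg.Agent.LsF.f83f0b1_17.2, Cfsg.Agent.LsF.f83f0b1_5.2, Cfsg.Agent.LsF.isub_pat, Cfsg.Agent.LsF.icast_pat]; exact rfl) | exact rfl⟩
private noncomputable def _root_.Cfsg.Agent.LsF.f83f0b1_19 : {f // @Cfsg.Agent.MO.WT.same = f} := ⟨_, by first | (delta Cfsg.Agent.MO.WT.same; rewrite [Cfsg.Agent.LsF.all_eq, Cfsg.Agent.LsF.instIDecEq_eq, Cfsg.Agent.LsF.decide_eq]; exact rfl) | exact rfl⟩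
private noncomputable def _root_.Cfsg.Agent.LsF.f83f0b1_20 : {f // @Cfsg.Agent.MO.WT.unitOK = f} := ⟨_, by first | (delta Cfsg.Agent.MO.WT.unitOK; rewrite [Cfsg.Agent.LsF.f83f0b1_0.2, Cfsg.Agent.LsF.f83f0b1_19.2, Cfsg.Agent.LsF.f83f0b1_10.2, Cfsg.Agent.LsF.and_eq, Cfsg.Agent.LsF.or_eq, Cfsg.Agent.LsF.not_eq, Cfsg.Agent.LsF.cond_eq, Cfsg.Agent.LsF.testBit_eq, Cfsg.Agent.LsF.all_eq, Cfsg.Agent.LsF.instIDecEq_eq, Cfsg.Agent.LsF.length_eq, Cfsg.Agent.LsF.decide_eq]; exact rfl) | exact rfl⟩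
private noncomputable def _root_.Cfsg.Agent.LsF.f83f0b1_21 : {f // @Cfsg.Agent.MO.WT.go = f} := ⟨_, by first | (delta Cfsg.Agent.MO.WT.go; rewrite [Cfsg.Agent.LsF.f83f0b1_0.2, Cfsg.Agent.LsF.f83f0b1_8.2, Cfsg.Agent.LsF.f83f0b1_15.2, Cfsg.Agent.LsF.f83f0b1_16.2, Cfsg.Agent.LsF.f83f0b1_4.2, Cfsg.Agent.LsF.f83f0b1_1.2, Cfsg.Agent.LsF.f83f0b1_18.2, Cfsg.Agent.LsF.f83f0b1_20.2, Cfsg.Agent.LsF.imul_pat, Cfsg.Agent.LsF.and_eq, Cfsg.Agent.LsF.testBit_eq, Cfsg.Agent.LsF.map_eq, Cfsg.Agent.LsF.range_eq, Cfsg.Agent.LsF.instIDecEq_eq, Cfsg.Agent.LsF.idecLt_eq, Cfsg.Agent.LsF.decide_eq]; (try delta Cfsg.Agent.MO.WT.Ins.casesOn); exact rfl) | exact rfl⟩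
private noncomputable def _root_.Cfsg.Agent.LsF.f83f0b1_22 : {f // @Cfsg.Agent.LV.W.dz = f} := ⟨_, by first | (delta Cfsg.Agent.LV.W.dz; rewrite [Cfsg.Agent.LsF.cond_eq]; exact rfl) | exact rfl⟩
private noncomputable def _root_.Cfsg.Agent.LsF.f83f0b1_24 : {f // @Cfsg.Agent.LV.W.unz = f} := ⟨_, by first | (delta Cfsg.Agent.LV.W.unz; rewrite [Cfsg.Agent.LsF.f83f0b1_22.2, Cfsg.Agent.LsF.map_eq]; exact rfl) | exact rfl⟩
private noncomputable def _root_.Cfsg.Agent.LsF.f83f0b1_25 : {f // @Cfsg.Agent.LV.W.E7 = f} := ⟨_, by first | (delta Cfsg.Agent.LV.W.E7; rewrite [Cfsg.Agent.LsF.f83f0b1_24.2, Cfsg.Agent.LsF.ineg_pat, Cfsg.Agent.LsF.map_eq]; exact rfl) | exact rfl⟩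
private noncomputable def _root_.Cfsg.Agent.LsF.f83f0b1_26 : {f // @Cfsg.Agent.LV.W.Nd.XP = f} := ⟨_, by first | (delta Cfsg.Agent.LV.W.Nd.XP; rewrite [Cfsg.Agent.LsF.f83f0b1_11.2, Cfsg.Agent.LsF.map_eq]; exact rfl) | exact rfl⟩
theorem E7_irr : IrrT E7 := irrT_of E7_good [
    .ref (unz 2 0xa0), .unit 2 [(1, 0)], .prod 2 2 (unz 2 0xa28000a), .unit 8 [(1, 0)], .unit 10 [(1, 0)],
    .prod 2 10 (unz 2 0xa0000a000a000a0), .unit 25 [(1, 0)], .unit 16 [(1, 0)], .unit 9 [(1, 0)],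
    .prod 8 25 (unz 2 0x550505000141540004c00028a00a000a0), .unit 34 [(1, 0)], .unit 51 [(1, 0)], .unit 52 [(1, 0)],
    .unit 37 [(1, 0)], .unit 33 [(1, 0)], .prod 8 34 (unz 2 0x514145501450051404c2828280a000a0a028000),
    .unit 11 [(1, 0)], .unit 7 [(1, 0)], .unit 28 [(1, 0)], .unit 47 [(1, 0)], .unit 54 [(1, 0)], .unit 59 [(1, 0)],
    .unit 48 [(1, 1), (-1, 0)], .prod 7 25 (unz 2 0x14154140000550500013000a0280028280), .unit 3 [(1, 0)],
    .unit 6 [(1, 0)], .unit 17 [(1, 0)], .unit 35 [(1, 0)], .unit 32 [(1, 0)], .unit 53 [(1, 0)], .unit 50 [(1, 0)],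
    .unit 36 [(1, 0)], .prod 7 34 (unz 2 0x14551414051414504c00aa00a028002828a0000), .unit 24 [(1, 0)],
    .unit 49 [(1, 1), (-1, 0)], .unit 58 [(1, 0)], .unit 55 [(1, 0)], .unit 44 [(1, 0)], .unit 29 [(1, 0)],
    .prod 7 8 (unz 2 0x2828000000028280a0028), .unit 1 [(1, 0)], .unit 31 [(1, 0)], .unit 14 [(1, 0)],
    .unit 40 [(1, 3)], .unit 45 [(1, 4)], .prod 14 16 (unz 2 0xaa00a028002828002800000000000000), .unit 46 [(1, 0)],
    .unit 56 [(1, 0)], .unit 39 [(1, 0)], .unit 13 [(1, 3)], .unit 30 [(1, 2)],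
    .prod 13 32 (unz 2 0x99399413a0a26504c2a828aa0a0280000a000000), .unit 42 [(1, 0)], .unit 22 [(1, 0)],
    .unit 26 [(1, 0)], .unit 12 [(1, 0)], .prod 14 22 (unz 2 0xa2828aa0aa02828280a00280a000000002800),
    .unit 23 [(1, 0)], .unit 43 [(1, 0)], .unit 5 [(1, 0)],
    .prod 24 39 (unz 3 0x19054cc7403a42810a2422484808e140e800000c82404844004800008c4a400), .unit 4 [(1, 0)],
    .unit 19 [(1, 0)], .unit 41 [(1, 0)], .unit 20 [(1, 5)], .prod 7 20 (unz 2 0xa00a28000000a0280000000a000000000),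
    .unit 38 [(1, 0)], .unit 18 [(1, 0)], .prod 6 25 (unz 2 0x2828002800260050504c00000280a028000), .unit 15 [(1, 0)],
    .unit 57 [(1, 0)], .unit 21 [(1, 9)], .unit 27 [(1, 3)]]
  (by ((try (rewrite [Cfsg.Agent.LsF.f83f0b1_21.2, Cfsg.Agent.LsF.f83f0b1_25.2, Cfsg.Agent.LsF.f83f0b1_26.2, Cfsg.Agent.LsF.f83f0b1_24.2, Cfsg.Agent.LsF.ineg_pat])); decide +kernel))

end Cfsg.Agent.MO.WT
end

-- part: MO/WC/D7
section
/-! MO/WC: generated data (helper27; tools/P3/h27/gen.py) -/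

set_option autoImplicit false
set_option maxRecDepth 100000

namespace Cfsg.Agent.MO.WC

open Cfsg.Agent.LV.W Cfsg.Agent.MO.WT

theorem cenK_E7_0 : CenK E7 0
    [1, 1, 7, 7, 15, 15, 21, 21, 21, 21, 27, 27, 35, 35, 35, 35, 56, 56, 70, 70, 84, 84, 105, 105, 105, 105, 105, 105,
    120, 120, 168, 168, 189, 189, 189, 189, 189, 189, 210, 210, 210, 210, 216, 216, 280, 280, 280, 280, 315, 315, 336,
    336, 378, 378, 405, 405, 420, 420, 512, 512] :=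
  cenK_top E7_good E7_good E7_irr (by decide +kernel)

theorem cenK_E7_59 : CenK E7 59
    [1, 1, 7, 7, 15, 15, 21, 21, 21, 21, 27, 27, 35, 35, 35, 35, 56, 56, 70, 70, 84, 84, 105, 105, 105, 105, 105, 105,
    120, 120, 168, 168, 189, 189, 189, 189, 189, 189, 210, 210, 210, 210, 216, 216, 280, 280, 280, 280, 315, 315, 336,
    336, 378, 378, 405, 405, 420, 420, 512, 512] :=
  cenK_top E7_good E7_good E7_irr (by decide +kernel)

namespace G26

noncomputable section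

def a0 : Q := ⟨0, 0, 0, 0⟩
def b0 : Q := ⟨1, 0, 0, 0⟩
def c0 : Q := ⟨-1, 0, 0, 0⟩
def d0 : Q := ⟨0, 0, 1, 0⟩
def e0 : Q := ⟨1, 0, -1, 0⟩
def f0 : Q := ⟨-1, 0, 1, 0⟩
def g0 : Q := ⟨0, 0, -1, 0⟩
def h0 : Q := ⟨2, 0, 0, 0⟩
def i0 : Q := ⟨-2, 0, 0, 0⟩
def j0 : Q := ⟨-2, 0, 1, 0⟩
def k0 : Q := ⟨-1, 0, -1, 0⟩
def l0 : Q := ⟨-1, 0, 2, 0⟩
def m0 : Q := ⟨1, 0, -2, 0⟩
def n0 : Q := ⟨1, 0, 1, 0⟩
def o0 : Q := ⟨2, 0, -1, 0⟩
def p0 : Q := ⟨3, 0, 0, 0⟩
def q0 : Q := ⟨-2, 0, 2, 0⟩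
def r0 : Q := ⟨0, 0, -2, 0⟩
def s0 : Q := ⟨8, 0, 0, 0⟩
def t0 : Q := ⟨0, 0, -3, 0⟩
def u0 : Q := ⟨-3, 0, 3, 0⟩
def v0 : Q := ⟨-3, 0, 0, 0⟩
def w0 : Q := ⟨6, 0, 0, 0⟩
def x0 : Q := ⟨-6, 0, 6, 0⟩
def y0 : Q := ⟨0, 0, -6, 0⟩
def z0 : Q := ⟨0, 0, 3, 0⟩
def a1 : Q := ⟨3, 0, -3, 0⟩
def b1 : Q := ⟨0, 0, 2, 0⟩
def c1 : Q := ⟨2, 0, -2, 0⟩
def d1 : Q := ⟨-8, 0, 0, 0⟩
def e1 : Q := ⟨6, 0, -6, 0⟩
def f1 : Q := ⟨0, 0, 6, 0⟩
def g1 : Q := ⟨-6, 0, 0, 0⟩
def h1 : Q := ⟨9, 0, 0, 0⟩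
def i1 : Q := ⟨-9, 0, 9, 0⟩
def j1 : Q := ⟨0, 0, -9, 0⟩
def k1 : Q := ⟨0, 0, 9, 0⟩
def l1 : Q := ⟨9, 0, -9, 0⟩
def m1 : Q := ⟨-9, 0, 0, 0⟩
def n1 : Q := ⟨-4, 0, 8, 0⟩
def o1 : Q := ⟨4, 0, -8, 0⟩
def p1 : Q := ⟨4, 0, 4, 0⟩
def q1 : Q := ⟨-4, 0, -4, 0⟩
def r1 : Q := ⟨8, 0, -4, 0⟩
def s1 : Q := ⟨-8, 0, 4, 0⟩
def t1 : Q := ⟨-4, 0, 2, 0⟩
def u1 : Q := ⟨4, 0, -2, 0⟩
def v1 : Q := ⟨-2, 0, -2, 0⟩
def w1 : Q := ⟨2, 0, 2, 0⟩
def x1 : Q := ⟨2, 0, -4, 0⟩
def y1 : Q := ⟨-2, 0, 4, 0⟩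
def z1 : Q := ⟨12, 0, 0, 0⟩
def a2 : Q := ⟨0, 0, 12, 0⟩
def b2 : Q := ⟨0, 0, -12, 0⟩
def c2 : Q := ⟨12, 0, -12, 0⟩
def d2 : Q := ⟨-12, 0, 12, 0⟩
def e2 : Q := ⟨-12, 0, 0, 0⟩

def c_0 : List Q := [b0, b0, b0, b0, b0, b0, h0, h0, h0, h0, h0, h0, p0, p0, p0, p0, p0, p0, p0, p0, p0, p0, p0, p0, p0, p0, w0, w0, w0,
    w0, w0, w0, w0, w0, w0, w0, w0, w0, s0, s0, s0, s0, s0, s0, h1, h1, h1, h1]
def c_1 : List Q := [b0, f0, f0, g0, g0, b0, c0, c0, d0, d0, e0, e0, j0, j0, k0, k0, l0, l0, a0, a0, m0, m0, n0, n0, o0, o0, j0, j0, k0,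
    k0, l0, l0, m0, m0, n0, n0, o0, o0, q0, q0, r0, r0, h0, h0]
def c_2 : List Q := [b0, g0, g0, f0, f0, b0, c0, c0, e0, e0, d0, d0, k0, k0, j0, j0, m0, m0, a0, a0, l0, l0, o0, o0, n0, n0, k0, k0, j0,
    j0, m0, m0, l0, l0, o0, o0, n0, n0, r0, r0, q0, q0, h0, h0]
def c_3 : List Q := [b0, c0, b0, c0, b0, c0, i0, h0, i0, h0, i0, h0, c0, b0, c0, b0, c0, b0, v0, p0, c0, b0, c0, b0, c0, b0, i0, h0, i0,
    h0, i0, h0, i0, h0, i0, h0, i0, h0, a0, a0, a0, a0, a0, a0, v0, v0, p0, p0]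
def c_4 : List Q := [b0, e0, f0, d0, g0, c0, b0, c0, g0, d0, f0, e0, d0, g0, e0, f0, c0, b0, a0, a0, c0, b0, e0, f0, d0, g0, g0, d0, f0,
    e0, b0, c0, b0, c0, f0, e0, g0, d0]
def c_5 : List Q := [b0, d0, g0, e0, f0, c0, b0, c0, f0, e0, g0, d0, e0, f0, d0, g0, c0, b0, a0, a0, c0, b0, d0, g0, e0, f0, f0, e0, g0,
    d0, b0, c0, b0, c0, g0, d0, f0, e0]
def c_6 : List Q := [b0, g0, g0, f0, f0, b0, b0, b0, f0, f0, g0, g0, e0, e0, d0, d0, c0, c0, a0, a0, c0, c0, d0, d0, e0, e0, e0, e0, d0,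
    d0, c0, c0, c0, c0, d0, d0, e0, e0]
def c_7 : List Q := [b0, f0, f0, g0, g0, b0, b0, b0, g0, g0, f0, f0, d0, d0, e0, e0, c0, c0, a0, a0, c0, c0, e0, e0, d0, d0, d0, d0, e0,
    e0, c0, c0, c0, c0, e0, e0, d0, d0]
def c_8 : List Q := [b0, b0, b0, b0, b0, b0, a0, a0, a0, a0, a0, a0, b0, b0, b0, b0, b0, b0, c0, c0, b0, b0, b0, b0, b0, b0, a0, a0, a0,
    a0, a0, a0, a0, a0, a0, a0, a0, a0, a0, a0, a0, a0, a0, a0, c0, c0, c0, c0]
def c_9 : List Q := [b0, d0, g0, e0, f0, c0, c0, b0, e0, f0, d0, g0, a0, a0, a0, a0, a0, a0, a0, a0, a0, a0, a0, a0, a0, a0, a0, a0, a0,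
    a0, a0, a0, a0, a0, a0, a0, a0, a0, g0, d0, f0, e0, c0, b0]
def c_10 : List Q := [b0, e0, f0, d0, g0, c0, b0, c0, g0, d0, f0, e0, e0, f0, d0, g0, e0, f0, a0, a0, d0, g0, c0, b0, c0, b0, b0, c0, b0,
    c0, g0, d0, f0, e0, g0, d0, f0, e0]
def c_11 : List Q := [b0, e0, f0, d0, g0, c0, c0, b0, d0, g0, e0, f0, a0, a0, a0, a0, a0, a0, a0, a0, a0, a0, a0, a0, a0, a0, a0, a0, a0,
    a0, a0, a0, a0, a0, a0, a0, a0, a0, f0, e0, g0, d0, c0, b0]
def c_12 : List Q := [b0, d0, g0, e0, f0, c0, b0, c0, f0, e0, g0, d0, d0, g0, e0, f0, d0, g0, a0, a0, e0, f0, c0, b0, c0, b0, b0, c0, b0,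
    c0, f0, e0, g0, d0, f0, e0, g0, d0]
def c_13 : List Q := [b0, c0, b0, c0, b0, c0, a0, a0, a0, a0, a0, a0, f0, e0, g0, d0, g0, d0, b0, c0, f0, e0, f0, e0, g0, d0, a0, a0, a0,
    a0, a0, a0, a0, a0, a0, a0, a0, a0, a0, a0, a0, a0, a0, a0, d0, e0, f0, g0]
def c_14 : List Q := [b0, c0, b0, c0, b0, c0, a0, a0, a0, a0, a0, a0, g0, d0, f0, e0, f0, e0, b0, c0, g0, d0, g0, d0, f0, e0, a0, a0, a0,
    a0, a0, a0, a0, a0, a0, a0, a0, a0, a0, a0, a0, a0, a0, a0, e0, d0, g0, f0]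
def c_15 : List Q := [b0, g0, g0, f0, f0, b0, c0, c0, e0, e0, d0, d0, a0, a0, a0, a0, a0, a0, a0, a0, a0, a0, a0, a0, a0, a0, a0, a0, a0,
    a0, a0, a0, a0, a0, a0, a0, a0, a0, d0, d0, e0, e0, c0, c0]
def c_16 : List Q := [b0, f0, f0, g0, g0, b0, c0, c0, d0, d0, e0, e0, a0, a0, a0, a0, a0, a0, a0, a0, a0, a0, a0, a0, a0, a0, a0, a0, a0,
    a0, a0, a0, a0, a0, a0, a0, a0, a0, e0, e0, d0, d0, c0, c0]
def c_17 : List Q := [b0, b0, b0, b0, b0, b0, a0, a0, a0, a0, a0, a0, g0, g0, f0, f0, f0, f0, c0, c0, g0, g0, g0, g0, f0, f0, a0, a0, a0,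
    a0, a0, a0, a0, a0, a0, a0, a0, a0, a0, a0, a0, a0, a0, a0, e0, d0, d0, e0]
def c_18 : List Q := [b0, b0, b0, b0, b0, b0, a0, a0, a0, a0, a0, a0, f0, f0, g0, g0, g0, g0, c0, c0, f0, f0, f0, f0, g0, g0, a0, a0, a0,
    a0, a0, a0, a0, a0, a0, a0, a0, a0, a0, a0, a0, a0, a0, a0, d0, e0, e0, d0]
def c_19 : List Q := [b0, b0, b0, b0, b0, b0, i0, i0, i0, i0, i0, i0, c0, c0, c0, c0, c0, c0, p0, p0, c0, c0, c0, c0, c0, c0, h0, h0, h0,
    h0, h0, h0, h0, h0, h0, h0, h0, h0, a0, a0, a0, a0, a0, a0, v0, v0, v0, v0]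
def c_20 : List Q := [b0, g0, g0, f0, f0, b0, c0, c0, e0, e0, d0, d0, o0, o0, n0, n0, j0, j0, a0, a0, k0, k0, l0, l0, m0, m0, l0, l0, m0,
    m0, n0, n0, o0, o0, k0, k0, j0, j0, r0, r0, q0, q0, h0, h0]
def c_21 : List Q := [b0, b0, b0, b0, b0, b0, h0, h0, h0, h0, h0, h0, a0, a0, a0, a0, a0, a0, p0, p0, a0, a0, a0, a0, a0, a0, a0, a0, a0,
    a0, a0, a0, a0, a0, a0, a0, a0, a0, c0, c0, c0, c0, c0, c0]
def c_22 : List Q := [b0, f0, f0, g0, g0, b0, c0, c0, d0, d0, e0, e0, n0, n0, o0, o0, k0, k0, a0, a0, j0, j0, m0, m0, l0, l0, m0, m0, l0,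
    l0, o0, o0, n0, n0, j0, j0, k0, k0, q0, q0, r0, r0, h0, h0]
def c_23 : List Q := [b0, d0, g0, e0, f0, c0, c0, b0, e0, f0, d0, g0, l0, m0, m0, l0, n0, k0, a0, a0, o0, j0, k0, n0, j0, o0, j0, o0, k0,
    n0, o0, j0, n0, k0, m0, l0, l0, m0, b1, r0, c1, q0, h0, i0]
def c_24 : List Q := [b0, c0, b0, c0, b0, c0, h0, i0, h0, i0, h0, i0, t0, z0, u0, a1, u0, a1, v0, p0, t0, z0, t0, z0, u0, a1, e1, x0, f1,
    y0, f1, y0, e1, x0, e1, x0, f1, y0, d1, s0, d1, s0, s0, d1, i1, j1, k1, l1]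
def c_25 : List Q := [b0, e0, f0, d0, g0, c0, c0, b0, d0, g0, e0, f0, m0, l0, l0, m0, o0, j0, a0, a0, n0, k0, j0, o0, k0, n0, k0, n0, j0,
    o0, n0, k0, o0, j0, l0, m0, m0, l0, c1, q0, b1, r0, h0, i0]
def c_26 : List Q := [b0, c0, b0, c0, b0, c0, h0, i0, h0, i0, h0, i0, u0, a1, t0, z0, t0, z0, v0, p0, u0, a1, u0, a1, t0, z0, f1, y0, e1,
    x0, e1, x0, f1, y0, f1, y0, e1, x0, d1, s0, d1, s0, s0, d1, j1, i1, l1, k1]
def c_27 : List Q := [b0, f0, f0, g0, g0, b0, b0, b0, g0, g0, f0, f0, c0, c0, c0, c0, d0, d0, a0, a0, e0, e0, d0, d0, e0, e0, e0, e0, d0,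
    d0, e0, e0, d0, d0, c0, c0, c0, c0]
def c_28 : List Q := [b0, b0, b0, b0, b0, b0, i0, i0, i0, i0, i0, i0, d0, d0, e0, e0, e0, e0, p0, p0, d0, d0, d0, d0, e0, e0, q0, q0, r0,
    r0, r0, r0, q0, q0, q0, q0, r0, r0, a0, a0, a0, a0, a0, a0, a1, z0, z0, a1]
def c_29 : List Q := [b0, b0, b0, b0, b0, b0, i0, i0, i0, i0, i0, i0, e0, e0, d0, d0, d0, d0, p0, p0, e0, e0, e0, e0, d0, d0, r0, r0, q0,
    q0, q0, q0, r0, r0, r0, r0, q0, q0, a0, a0, a0, a0, a0, a0, z0, a1, a1, z0]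
def c_30 : List Q := [b0, g0, g0, f0, f0, b0, b0, b0, f0, f0, g0, g0, c0, c0, c0, c0, e0, e0, a0, a0, d0, d0, e0, e0, d0, d0, d0, d0, e0,
    e0, d0, d0, e0, e0, c0, c0, c0, c0]
def c_31 : List Q := [b0, d0, g0, e0, f0, c0, c0, b0, e0, f0, d0, g0, o0, j0, n0, k0, j0, o0, a0, a0, k0, n0, l0, m0, m0, l0, m0, l0, l0,
    m0, k0, n0, j0, o0, n0, k0, o0, j0, b1, r0, c1, q0, h0, i0]
def c_32 : List Q := [b0, c0, b0, c0, b0, c0, h0, i0, h0, i0, h0, i0, a0, a0, a0, a0, a0, a0, v0, p0, a0, a0, a0, a0, a0, a0, a0, a0, a0,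
    a0, a0, a0, a0, a0, a0, a0, a0, a0, b0, c0, b0, c0, c0, b0]
def c_33 : List Q := [b0, e0, f0, d0, g0, c0, c0, b0, d0, g0, e0, f0, n0, k0, o0, j0, k0, n0, a0, a0, j0, o0, m0, l0, l0, m0, l0, m0, m0,
    l0, j0, o0, k0, n0, o0, j0, n0, k0, c1, q0, b1, r0, h0, i0]
def c_34 : List Q := [b0, g0, g0, f0, f0, b0, b0, b0, f0, f0, g0, g0, d0, d0, e0, e0, d0, d0, a0, a0, e0, e0, c0, c0, c0, c0, c0, c0, c0,
    c0, e0, e0, d0, d0, e0, e0, d0, d0]
def c_35 : List Q := [b0, f0, f0, g0, g0, b0, b0, b0, g0, g0, f0, f0, e0, e0, d0, d0, e0, e0, a0, a0, d0, d0, c0, c0, c0, c0, c0, c0, c0,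
    c0, d0, d0, e0, e0, d0, d0, e0, e0]
def c_36 : List Q := [b0, d0, g0, e0, f0, c0, b0, c0, f0, e0, g0, d0, c0, b0, c0, b0, e0, f0, a0, a0, d0, g0, e0, f0, d0, g0, g0, d0, f0,
    e0, g0, d0, f0, e0, b0, c0, b0, c0]
def c_37 : List Q := [b0, c0, b0, c0, b0, c0, i0, h0, i0, h0, i0, h0, e0, f0, d0, g0, d0, g0, v0, p0, e0, f0, e0, f0, d0, g0, b1, r0, c1,
    q0, c1, q0, b1, r0, b1, r0, c1, q0, a0, a0, a0, a0, a0, a0, z0, a1, u0, t0]
def c_38 : List Q := [b0, e0, f0, d0, g0, c0, b0, c0, g0, d0, f0, e0, c0, b0, c0, b0, d0, g0, a0, a0, e0, f0, d0, g0, e0, f0, f0, e0, g0,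
    d0, f0, e0, g0, d0, b0, c0, b0, c0]
def c_39 : List Q := [b0, c0, b0, c0, b0, c0, i0, h0, i0, h0, i0, h0, d0, g0, e0, f0, e0, f0, v0, p0, d0, g0, d0, g0, e0, f0, c1, q0, b1,
    r0, b1, r0, c1, q0, c1, q0, b1, r0, a0, a0, a0, a0, a0, a0, a1, z0, t0, u0]
def c_40 : List Q := [b0, e0, f0, d0, g0, c0, c0, b0, d0, g0, e0, f0, j0, o0, k0, n0, l0, m0, a0, a0, m0, l0, n0, k0, o0, j0, o0, j0, n0,
    k0, m0, l0, l0, m0, k0, n0, j0, o0, c1, q0, b1, r0, h0, i0]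
def c_41 : List Q := [b0, d0, g0, e0, f0, c0, c0, b0, e0, f0, d0, g0, k0, n0, j0, o0, m0, l0, a0, a0, l0, m0, o0, j0, n0, k0, n0, k0, o0,
    j0, l0, m0, m0, l0, j0, o0, k0, n0, b1, r0, c1, q0, h0, i0]
def c_42 : List Q := [b0, c0, b0, c0, b0, c0, a0, a0, a0, a0, a0, a0, b0, c0, b0, c0, b0, c0, b0, c0, b0, c0, b0, c0, b0, c0, a0, a0, a0,
    a0, a0, a0, a0, a0, a0, a0, a0, a0, a0, a0, a0, a0, a0, a0, c0, c0, b0, b0]
def c_43 : List Q := [b0, f0, f0, g0, g0, b0, c0, c0, d0, d0, e0, e0, m0, m0, l0, l0, o0, o0, a0, a0, n0, n0, j0, j0, k0, k0, n0, n0, o0,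
    o0, k0, k0, j0, j0, m0, m0, l0, l0, q0, q0, r0, r0, h0, h0]
def c_44 : List Q := [b0, b0, b0, b0, b0, b0, h0, h0, h0, h0, h0, h0, u0, u0, t0, t0, t0, t0, p0, p0, u0, u0, u0, u0, t0, t0, y0, y0, x0,
    x0, x0, x0, y0, y0, y0, y0, x0, x0, s0, s0, s0, s0, s0, s0, j1, i1, i1, j1]
def c_45 : List Q := [b0, g0, g0, f0, f0, b0, c0, c0, e0, e0, d0, d0, l0, l0, m0, m0, n0, n0, a0, a0, o0, o0, k0, k0, j0, j0, o0, o0, n0,
    n0, j0, j0, k0, k0, l0, l0, m0, m0, r0, r0, q0, q0, h0, h0]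
def c_46 : List Q := [b0, b0, b0, b0, b0, b0, h0, h0, h0, h0, h0, h0, t0, t0, u0, u0, u0, u0, p0, p0, t0, t0, t0, t0, u0, u0, x0, x0, y0,
    y0, y0, y0, x0, x0, x0, x0, y0, y0, s0, s0, s0, s0, s0, s0, i1, j1, j1, i1]
def c_47 : List Q := [b0, c0, b0, c0, b0, c0, h0, i0, h0, i0, h0, i0, p0, v0, p0, v0, p0, v0, v0, p0, p0, v0, p0, v0, p0, v0, g1, w0, g1,
    w0, g1, w0, g1, w0, g1, w0, g1, w0, d1, s0, d1, s0, s0, d1, h1, h1, m1, m1]
def c_48 : List Q := [z1, a2, b2, c2, d2, e2, g1, w0, e1, x0, f1, y0, n1, o1, o1, n1, p1, q1, a0, a0, r1, s1, q1, p1, s1, r1, t1, u1, v1,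
    w1, u1, t1, w1, v1, x1, y1, y1, x1, z0, t0, a1, u0, p0, v0]

end

end G26

open G26 in
noncomputable def G26_T : Tb where
  f := F12
  K := 48
  nu := 1296
  n := [1, 12, 12, 9, 36, 36, 36, 36, 54, 72, 36, 72, 36, 54, 54, 72, 72, 54, 54, 9, 12, 24, 12, 12, 1, 12, 1, 36, 9, 9,
    36, 12, 24, 12, 36, 36, 36, 9, 36, 9, 12, 12, 54, 12, 1, 12, 1, 1]
  XC := [c_0, c_1, c_2, c_3, c_4, c_5, c_6, c_7, c_8, c_9, c_10, c_11, c_12, c_13, c_14, c_15, c_16, c_17, c_18, c_19, c_20,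
    c_21, c_22, c_23, c_24, c_25, c_26, c_27, c_28, c_29, c_30, c_31, c_32, c_33, c_34, c_35, c_36, c_37, c_38, c_39,
    c_40, c_41, c_42, c_43, c_44, c_45, c_46, c_47]
  rows := [(List.map (unp 5) [0xd8bb6c62f1c0bb662edd0bb6c2eda8bb722edb8bb682eda18bc62e9,
    0xd000756309b073702001d9b880756e01d198736c21d1c000757201d1b903688411,
    0xd88546429d20546e14dd10546c14db1854700151b8054664151b18cc726331,
    0xda03463c9a08346c40d1d8f3723cdc0f36a00d1a8336600d1d0834680cd,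
    0xa10946389b8809562499808c6822d98808d6624d880946424d889b6269,
    0xa10846469ca0846420d90b362c9d8b36620d882620211d083c680ed,
    0xa10b6e42dd8854660091ca05c6816d98236429805b72801758805c686171,
    0xa80746c1cd93a6c06dc806c72401b5981b74001d5b806c61a9b86b601ad,
    0xc8bb6648db18bc7212d9904c6818d9984c6e48da204c7021919063760191,
    0xc80dc760371a10846c4211903b6c0eda00846469b11b7263718003c6e0471,
    0x8e26e00115d00446c24da0eb6e200119a10446e20255b0e37410da800456e0251,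
    0xa09362498aa6ee2b1908b6e0231d8ab6400115b8044620251a0008d6410d,
    0xd8db6420dc8836c6031a83b724211c18846a02dd88dc6209b20846802d,
    0xa803476ee1f58f2720cda00f46e04db18f472401f5b0f37261f1a8137241f1,
    0xd8a36c40d1c187c6a28d907b6e0451d907c6000d1d8007d6a0cda91360c9,
    0x880546149a105c6c41719327024d1a005c6089b0236a14d89336e0091,
    0x99001566a40555d39047440d8806c70201b590272201d5d0074700551a86b742001d9,
    0x84a6412da063740ad90fb7480b1b802c60a9b104c680191d8fb688131,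
    0xa892472249194a7481319802c6812d8804c7284135c09246a52db02b6848d,
    0xb923648999236600b1b82b680ad982b6848db802c6800b182a600ad,
    0xd10b7208dbb0247480919427008d8226a2091b90b660091b0236808d,
    0x94a7284135c904c6c4131980fc704131a104c6a2131d8bb6412dc184c6884135,
    0x91036e201b5b906c6e21b18d26e4001b9b806c6e1add3904641ada8006d70201b5,
    0xc00dc726031c80dc6836da88dc742371b08dc76037198db6e36d80a6569,
    0xc00a47028d88a36028d8a27628d90a37428da80a46e28da8a36628d,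
    0x988045600998436a400119c10045720111c080046684111a800456c2111db8ac6a2ad,
    0xb813604998136a04dd8137204dc0136804dd0136c04dc98146c6051,
    0xa080756069b873641cd981546854d9881556641d18726201d1892b64a9,
    0xd9236c0191c123702491b0636c6191d10647248dd892472249189236489,
    0xa06360a9b90646418dd82b720adc02b7618d862620191a08647018d,
    0xb005c7004d1d1005d6a0171c0cb7632dc8cb6ec171d3b85d6c40175a08547014d,
    0xb80b640eda03b720eda80b47240f1b03b60e98b26c40f1a803c7020f1,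
    0xc8807d7621f1c887c7241f1c9007d6804dc807c6e28d9007c725adc87b7401f1,
    0xd08946589a800957200255980946824d9880957424dd809472200259bb8ac662ad,
    0xa105c6089ca05c6416d91436509d9436616d85a620171a89346e4cd,
    0xa8154604adc001556a40555b8806d6e01b1986b74200559c01546c200559893b64e9,
    0xc15b6236dc95b688211b8836820215990847656da008472a21191a6046d,
    0x9833680cd832660451b9136844d9913640cdb81146804519126044d,
    0x9843684111842660231d9008d683add808c626988a743ad988b6022d,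
    0xb89146244d989146603d1b8f3683cd98f3682451b80f46803d18f2603cd,
    0x980ac660231b88b6c22d9726e00235a08b6e202358aa6229a888c6e0231,
    0xb95b7246dbb11c7484718b27046d91a6a2471d95b660471b11b6846d,
    0x87a641edd88f47444d996b748451b81146449b107c6ec3d1b16b6881f1,
    0xc81547640dd901556e20555b09546a400559d0015570200559a11546654da210465e9,
    0xc014c7052d894b6052d94a7652d914b7452da814c6e52da94b6652d,
    0xa13363299327424d190134604cdd8134644cd80134624cd99436a50d,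
    0x8fa663ed90fb623edc00fc743ed80fb6e3ed980fc763edc0fb6a3ed,
    0xb96b65a9996b6a5add96b725adc16b685add16b6c5adc996c6c65b1])]
  lev := [c_48]
  b := 18
  B := 2048

noncomputable def G26_D : Gp where
  Ls := [0x1013120324312032435465, 0x1054312032654312032431, 0x1123120325431203243546, 0x1012032045431203243546,
    0x1013120435431203243546, 0x1020312034354312365431, 0x1031203435431203654312, 0x1123204315431203243546,
    0x1131431235431654312032, 0x1120314312354365431203, 0x1231203435431236543120, 0x1012314312354316543123]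
  rw := (unp 8
    0x80901890192189019218aa189019218aa19032a189019218aa19032a1891a2b7ec810c480c90c550c5950c480c90c550c81950c48d16a6048624064862a862ca8624064862a8640ca862468b53012312032431543120324315432065431203243546a98091890192189019218aa18901932a18901921aa32d4c90c4950c9950c480c90c550c81950c48e1626246864a8624064862a8ca862468acfb12314312345432654312032431543657d89019021891a2a18901921aa332c080d0c480c91950c480c90c5596046408624068ca8624064862acb0123204312345431203243546658101890192a189019218ab2a30c04810c480c95950c480c90d5860240624064a862406486a8cbb020312034320543123654315d91a189019232a189019218aaec8c480c950c480c90c5595166248624064aca862406486ab303120325431203243156545980a1890192b2a18901921aacc90c480c9950c480c90c555608624064ca8624064862aab0131203254312032435465580989019218901921aa32aacc50c4950c49950c48d154624648624a862468aca86a3123124325431234565435180901890192189019218a8c8c480d50c48d15950d2664864aca862406486a93031203543123456543499a1892b2a18901921aa4d50c5950c480c8d6040624686a8ca6b543165431232daa1b2a1890196c8c48d0d5194b60624686a8ca5b02031234312989a1890190c0c48d0c486240a8ca3b01254651d8aa328ac8026041301)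
  rh := (unp 6
    0x8001b2100006640008c8844019801371136cc88000ed900015cc11000004b7200056ca06d0c88001da19100004365004642200ae154da1080003b982246860000cd9488019cc132211000009644000ac840d80b6421000086cc8000ce48411a190003355220066e40000cedc8000021b908a3b71368442000012edc00001dd51002b8855056e440000eddc80019a1108000438510468640000ed948015cc11b110046204c1)
  cod := (unp 6
    0x1f9f9f9f9f9f9fed9a59a229f2120ed9a59a2220a11f6d34d128e904f8fb782967e72827e7dbe886708c768693b49354935493f46df8463846383f50da69ea1229f1a20ef9a79c229e221eed9a71f1d20a51f6d34f5091104d0fb798649a787e847fbec9666967e7c7fb4d354c3d3f3e3fde1a0a39f9ea19aef9a79c209ea223ed30c934ecfd090b7d92ccd28fcf90b698649a7484847fbec966692847c7fb66986c8c7e8485b66986c8a84847fb4d354c3b423e3fde0a6209d211f9fefea09f1da421246d18f4f910fce53378c768682747c9fbc14b3f3f3f3f3fde31ba69b9f2422efb229f1da224a2ed18dd34d51520f77d918f0f1191d136f4e90505150d07682828c82748879bfc768282888487b78788282868885b4141463b3c444ade0a0a31ba5221d6f05110d04ed0cff7828e7884867885bc144433b46433bde09ea0a31f1fa0ef04f5051504fcfb7827a8288827e83bc14141433e4141de0a0a0a120a09f6f050505050505077)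
  tw := (List.map (unp 7)
    [0x80989021aa18901921aa355891890192a18901921aa35589190218aa18901921aa355918901a1aa1891b2a18905589018a1891aa1b2a18901d5898a1891aa18b2a1890195580918a1891aa18b2a1891d5809019022a18901921aa355818901a1aa18901b2a1895581018901a1aa1891b2a18d582a18901932a189019218d580989019218901921aa32d5])
  th := (List.map (unp 3) [0xa595bdd5cdc5dd9db5ad8d85])

private noncomputable def _root_.Cfsg.Agent.LsF.f83f0b1_27 : {f // @Cfsg.Agent.MO.WC.Q.eq = f} := ⟨_, by first | (delta Cfsg.Agent.MO.WC.Q.eq; rewrite [Cfsg.Agent.LsF.and_eq, Cfsg.Agent.LsF.instIDecEq_eq, Cfsg.Agent.LsF.decide_eq]; exact rfl) | exact rfl⟩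
private noncomputable def _root_.Cfsg.Agent.LsF.f83f0b1_28 : {f // @Cfsg.Agent.MO.WC.nab = f} := ⟨_, by first | (delta Cfsg.Agent.MO.WC.nab; rewrite [Cfsg.Agent.LsF.natAbs_eq]; exact rfl) | exact rfl⟩
private noncomputable def _root_.Cfsg.Agent.LsF.f83f0b1_29 : {f // @Cfsg.Agent.MO.WC.Q.add = f} := ⟨_, by first | (delta Cfsg.Agent.MO.WC.Q.add; rewrite [Cfsg.Agent.LsF.iadd_eq]; exact rfl) | exact rfl⟩
private noncomputable def _root_.Cfsg.Agent.LsF.f83f0b1_30 : {f // @Cfsg.Agent.MO.WC.Q.sm = f} := ⟨_, by first | (delta Cfsg.Agent.MO.WC.Q.sm; rewrite [Cfsg.Agent.LsF.imul_eq]; exact rfl) | exact rfl⟩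
private noncomputable def _root_.Cfsg.Agent.LsF.f83f0b1_31 : {f // @Cfsg.Agent.MO.WC.Q.ax = f} := ⟨_, by first | (delta Cfsg.Agent.MO.WC.Q.ax; rewrite [Cfsg.Agent.LsF.f83f0b1_29.2, Cfsg.Agent.LsF.f83f0b1_30.2, Cfsg.Agent.LsF.cond_eq, Cfsg.Agent.LsF.instIDecEq_eq, Cfsg.Agent.LsF.decide_eq]; exact rfl) | exact rfl⟩
private noncomputable def _root_.Cfsg.Agent.LsF.f83f0b1_32 : {f // @Cfsg.Agent.MO.WC.dotQ = f} := ⟨_, by first | (delta Cfsg.Agent.MO.WC.dotQ; rewrite [Cfsg.Agent.LsF.f83f0b1_31.2]; (try delta List.casesOn); exact rfl) | exact rfl⟩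
private noncomputable def _root_.Cfsg.Agent.LsF.f83f0b1_33 : {f // @Cfsg.Agent.MO.WC.Tb.valOK = f} := ⟨_, by first | (delta Cfsg.Agent.MO.WC.Tb.valOK; rewrite [Cfsg.Agent.LsF.f83f0b1_2.2, Cfsg.Agent.LsF.f83f0b1_27.2, Cfsg.Agent.LsF.f83f0b1_32.2, Cfsg.Agent.LsF.and_eq, Cfsg.Agent.LsF.length_eq]; exact rfl) | exact rfl⟩
private noncomputable def _root_.Cfsg.Agent.LsF.f83f0b1_34 : {f // @Cfsg.Agent.MO.WC.Tb.baseOK = f} := ⟨_, by first | (delta Cfsg.Agent.MO.WC.Tb.baseOK; rewrite [Cfsg.Agent.LsF.f83f0b1_17.2, Cfsg.Agent.LsF.f83f0b1_27.2, Cfsg.Agent.LsF.f83f0b1_28.2, Cfsg.Agent.LsF.f83f0b1_0.2, Cfsg.Agent.LsF.f83f0b1_33.2, Cfsg.Agent.LsF.nsub_pat, Cfsg.Agent.LsF.icast_pat, Cfsg.Agent.LsF.and_eq, Cfsg.Agent.LsF.all_eq, Cfsg.Agent.LsF.map_eq, Cfsg.Agent.LsF.replicate_eq, Cfsg.Agent.LsF.instIDecEq_eq, Cfsg.Agent.LsF.idecLt_eq, Cfsg.Agent.LsF.length_eq, Cfsg.Agent.LsF.decide_eq]; exact rfl) |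 exact rfl⟩
private noncomputable def _root_.Cfsg.Agent.LsF.f83f0b1_35 : {f // @Cfsg.Agent.MO.WC.sum2 = f} := ⟨_, by first | (delta Cfsg.Agent.MO.WC.sum2; rewrite [Cfsg.Agent.LsF.iadd_eq, Cfsg.Agent.LsF.imul_eq]; (try delta List.casesOn); exact rfl) | exact rfl⟩
private noncomputable def _root_.Cfsg.Agent.LsF.f83f0b1_36 : {f // @Cfsg.Agent.MO.WC.Tb.massOK = f} := ⟨_, by first | (delta Cfsg.Agent.MO.WC.Tb.massOK; rewrite [Cfsg.Agent.LsF.f83f0b1_9.2, Cfsg.Agent.LsF.f83f0b1_35.2, Cfsg.Agent.LsF.f83f0b1_11.2, Cfsg.Agent.LsF.imul_pat, Cfsg.Agent.LsF.icast_pat, Cfsg.Agent.LsF.and_eq, Cfsg.Agent.LsF.all_eq, Cfsg.Agent.LsF.instIDecEq_eq, Cfsg.Agent.LsF.length_eq, Cfsg.Agent.LsF.decide_eq]; exact rfl) | exact rfl⟩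
private noncomputable def _root_.Cfsg.Agent.LsF.f83f0b1_37 : {f // @Cfsg.Agent.MO.WC.addZ = f} := ⟨_, by first | (delta Cfsg.Agent.MO.WC.addZ; rewrite [Cfsg.Agent.LsF.iadd_eq, Cfsg.Agent.LsF.imul_eq]; (try delta List.casesOn); exact rfl) | exact rfl⟩
private noncomputable def _root_.Cfsg.Agent.LsF.f83f0b1_38 : {f // @Cfsg.Agent.MO.WC.accZ = f} := ⟨_, by first | (delta Cfsg.Agent.MO.WC.accZ; rewrite [Cfsg.Agent.LsF.f83f0b1_37.2]; (try delta List.casesOn); exact rfl) | exact rfl⟩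
private noncomputable def _root_.Cfsg.Agent.LsF.f83f0b1_39 : {f // @Cfsg.Agent.MO.WC.Fd.nq = f} := ⟨_, by first | (delta Cfsg.Agent.MO.WC.Fd.nq; rewrite [Cfsg.Agent.LsF.f83f0b1_29.2, Cfsg.Agent.LsF.f83f0b1_30.2, Cfsg.Agent.LsF.iadd_eq, Cfsg.Agent.LsF.imul_eq]; exact rfl) | exact rfl⟩
private noncomputable def _root_.Cfsg.Agent.LsF.f83f0b1_40 : {f // @Cfsg.Agent.MO.WC.Tb.nrmOK = f} := ⟨_, by first | (delta Cfsg.Agent.MO.WC.Tb.nrmOK; rewrite [Cfsg.Agent.LsF.f83f0b1_0.2, Cfsg.Agent.LsF.f83f0b1_38.2, Cfsg.Agent.LsF.f83f0b1_39.2, Cfsg.Agent.LsF.icast_pat, Cfsg.Agent.LsF.instIDecEq_eq, Cfsg.Agent.LsF.decide_eq]; exact rfl) | exact rfl⟩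
private noncomputable def _root_.Cfsg.Agent.LsF.f83f0b1_41 : {f // @Cfsg.Agent.MO.WC.sab = f} := ⟨_, by first | (delta Cfsg.Agent.MO.WC.sab; rewrite [Cfsg.Agent.LsF.f83f0b1_28.2]; exact rfl) | exact rfl⟩
private noncomputable def _root_.Cfsg.Agent.LsF.f83f0b1_42 : {f // @Cfsg.Agent.MO.WC.dotS = f} := ⟨_, by first | (delta Cfsg.Agent.MO.WC.dotS; rewrite [Cfsg.Agent.LsF.cond_eq, Cfsg.Agent.LsF.iadd_eq, Cfsg.Agent.LsF.imul_eq, Cfsg.Agent.LsF.instIDecEq_eq, Cfsg.Agent.LsF.decide_eq]; (try delta List.casesOn); exact rfl) | exact rfl⟩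
private noncomputable def _root_.Cfsg.Agent.LsF.f83f0b1_43 : {f // @Cfsg.Agent.MO.WC.zpk = f} := ⟨_, by first | (delta Cfsg.Agent.MO.WC.zpk; rewrite [Cfsg.Agent.LsF.map_eq, Cfsg.Agent.LsF.iadd_eq, Cfsg.Agent.LsF.imul_eq]; (try delta List.casesOn); exact rfl) | exact rfl⟩
private noncomputable def _root_.Cfsg.Agent.LsF.f83f0b1_44 : {f // @Cfsg.Agent.MO.WC.pkR = f} := ⟨_, by first | (delta Cfsg.Agent.MO.WC.pkR; rewrite [Cfsg.Agent.LsF.f83f0b1_43.2]; exact rfl) | exact rfl⟩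
private noncomputable def _root_.Cfsg.Agent.LsF.f83f0b1_45 : {f // @Cfsg.Agent.MO.WC.en = f} := ⟨_, by first | (delta Cfsg.Agent.MO.WC.en; rewrite [Cfsg.Agent.LsF.iadd_eq, Cfsg.Agent.LsF.imul_eq]; exact rfl) | exact rfl⟩
private noncomputable def _root_.Cfsg.Agent.LsF.f83f0b1_46 : {f // @Cfsg.Agent.MO.WC.pkE = f} := ⟨_, by first | (delta Cfsg.Agent.MO.WC.pkE; rewrite [Cfsg.Agent.LsF.iadd_eq, Cfsg.Agent.LsF.imul_eq]; exact rfl) | exact rfl⟩
private noncomputable def _root_.Cfsg.Agent.LsF.f83f0b1_47 : {f // @Cfsg.Agent.MO.WC.Tb.valF = f} := ⟨_, by first | (delta Cfsg.Agent.MO.WC.Tb.valF; rewrite [Cfsg.Agent.LsF.f83f0b1_9.2, Cfsg.Agent.LsF.f83f0b1_41.2, Cfsg.Agent.LsF.f83f0b1_42.2, Cfsg.Agent.LsF.f83f0b1_44.2, Cfsg.Agent.LsF.f83f0b1_45.2, Cfsg.Agent.LsF.f83f0b1_46.2, Cfsg.Agent.LsF.and_eq, Cfsg.Agent.LsF.instIDecEq_eq, Cfsg.Agent.LsF.length_eq, Cfsg.Agent.LsF.decide_eq]; exact rfl) | exact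 rfl⟩
private noncomputable def _root_.Cfsg.Agent.LsF.f83f0b1_48 : {f // @Cfsg.Agent.MO.WC.Q.mul' = f} := ⟨_, by first | (delta Cfsg.Agent.MO.WC.Q.mul'; rewrite [Cfsg.Agent.LsF.f83f0b1_31.2]; exact rfl) | exact rfl⟩
private noncomputable def _root_.Cfsg.Agent.LsF.f83f0b1_49 : {f // @Cfsg.Agent.MO.WC.Q.mx = f} := ⟨_, by first | (delta Cfsg.Agent.MO.WC.Q.mx; rewrite [Cfsg.Agent.LsF.iadd_eq, Cfsg.Agent.LsF.imul_eq]; exact rfl) | exact rfl⟩
private noncomputable def _root_.Cfsg.Agent.LsF.f83f0b1_50 : {f // @Cfsg.Agent.MO.WC.Q.pw = f} := ⟨_, by first | (delta Cfsg.Agent.MO.WC.Q.pw; rewrite [Cfsg.Agent.LsF.f83f0b1_49.2]; exact rfl) | exact rfl⟩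
private noncomputable def _root_.Cfsg.Agent.LsF.f83f0b1_51 : {f // @Cfsg.Agent.MO.WC.same = f} := ⟨_, by first | (delta Cfsg.Agent.MO.WC.same; rewrite [Cfsg.Agent.LsF.f83f0b1_0.2, Cfsg.Agent.LsF.f83f0b1_27.2, Cfsg.Agent.LsF.length_eq]; exact rfl) | exact rfl⟩
private noncomputable def _root_.Cfsg.Agent.LsF.f83f0b1_52 : {f // @Cfsg.Agent.MO.WC.unitF = f} := ⟨_, by first | (delta Cfsg.Agent.MO.WC.unitF; rewrite [Cfsg.Agent.LsF.f83f0b1_0.2, Cfsg.Agent.LsF.f83f0b1_10.2, Cfsg.Agent.LsF.f83f0b1_51.2, Cfsg.Agent.LsF.and_eq, Cfsg.Agent.LsF.or_eq, Cfsg.Agent.LsF.not_eq, Cfsg.Agent.LsF.cond_eq, Cfsg.Agent.LsF.all_eq, Cfsg.Agent.LsF.instIDecEq_eq, Cfsg.Agent.LsF.length_eq, Cfsg.Agent.LsF.decide_eq]; exact rfl) | exact rfl⟩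
private noncomputable def _root_.Cfsg.Agent.LsF.f83f0b1_53 : {f // @Cfsg.Agent.MO.WC.go = f} := ⟨_, by first | (delta Cfsg.Agent.MO.WC.go; rewrite [Cfsg.Agent.LsF.f83f0b1_0.2, Cfsg.Agent.LsF.f83f0b1_47.2, Cfsg.Agent.LsF.f83f0b1_48.2, Cfsg.Agent.LsF.f83f0b1_50.2, Cfsg.Agent.LsF.f83f0b1_52.2, Cfsg.Agent.LsF.and_eq, Cfsg.Agent.LsF.testBit_eq, Cfsg.Agent.LsF.map_eq]; (try delta Cfsg.Agent.MO.WC.Is.casesOn); exact rfl) | exact rfl⟩
private noncomputable def _root_.Cfsg.Agent.LsF.f83f0b1_54 : {f // @Cfsg.Agent.MO.WC.runG = f} := ⟨_, by first | (delta Cfsg.Agent.MO.WC.runG; rewrite [Cfsg.Agent.LsF.f83f0b1_4.2, Cfsg.Agent.LsF.cond_eq]; exact rfl) | exact rfl⟩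
private noncomputable def _root_.Cfsg.Agent.LsF.f83f0b1_55 : {f // @Cfsg.Agent.MO.WC.Gp.runH = f} := ⟨_, by first | (delta Cfsg.Agent.MO.WC.Gp.runH; rewrite [Cfsg.Agent.LsF.f83f0b1_54.2]; exact rfl) | exact rfl⟩
private noncomputable def _root_.Cfsg.Agent.LsF.f83f0b1_56 : {f // @Cfsg.Agent.MO.WC.Gp.setOK = f} := ⟨_, by first | (delta Cfsg.Agent.MO.WC.Gp.setOK; rewrite [Cfsg.Agent.LsF.f83f0b1_2.2, Cfsg.Agent.LsF.f83f0b1_4.2, Cfsg.Agent.LsF.f83f0b1_55.2, Cfsg.Agent.LsF.f83f0b1_7.2, Cfsg.Agent.LsF.f83f0b1_6.2, Cfsg.Agent.LsF.and_eq, Cfsg.Agent.LsF.all_eq, Cfsg.Agent.LsF.map_eq]; exact rfl) | exact rfl⟩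
private noncomputable def _root_.Cfsg.Agent.LsF.f83f0b1_57 : {f // @Cfsg.Agent.MO.WC.Gp.baseOK = f} := ⟨_, by first | (delta Cfsg.Agent.MO.WC.Gp.baseOK; rewrite [Cfsg.Agent.LsF.f83f0b1_1.2, Cfsg.Agent.LsF.f83f0b1_0.2, Cfsg.Agent.LsF.f83f0b1_4.2, Cfsg.Agent.LsF.f83f0b1_55.2, Cfsg.Agent.LsF.f83f0b1_56.2, Cfsg.Agent.LsF.f83f0b1_6.2, Cfsg.Agent.LsF.f83f0b1_33.2, Cfsg.Agent.LsF.f83f0b1_18.2, Cfsg.Agent.LsF.and_eq, Cfsg.Agent.LsF.or_eq, Cfsg.Agent.LsF.not_eq, Cfsg.Agent.LsF.all_eq, Cfsg.Agent.LsF.map_eq, Cfsg.Agent.LsF.length_eq]; exact rfl) | exact rfl⟩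
private noncomputable def _root_.Cfsg.Agent.LsF.f83f0b1_58 : {f // @Cfsg.Agent.MO.WC.smZ = f} := ⟨_, by first | (delta Cfsg.Agent.MO.WC.smZ; rewrite [Cfsg.Agent.LsF.iadd_eq]; exact rfl) | exact rfl⟩
private noncomputable def _root_.Cfsg.Agent.LsF.f83f0b1_59 : {f // @Cfsg.Agent.MO.WC.zq = f} := ⟨_, by first | (delta Cfsg.Agent.MO.WC.zq; rewrite [Cfsg.Agent.LsF.f83f0b1_48.2]; (try delta List.casesOn); exact rfl) | exact rfl⟩
private noncomputable def _root_.Cfsg.Agent.LsF.f83f0b1_60 : {f // @Cfsg.Agent.MO.WC.Tb.eig1 = f} := ⟨_, by first | (delta Cfsg.Agent.MO.WC.Tb.eig1; rewrite [Cfsg.Agent.LsF.f83f0b1_41.2, Cfsg.Agent.LsF.f83f0b1_58.2, Cfsg.Agent.LsF.f83f0b1_46.2, Cfsg.Agent.LsF.f83f0b1_45.2, Cfsg.Agent.LsF.f83f0b1_59.2, Cfsg.Agent.LsF.nadd_pat, Cfsg.Agent.LsF.nmul_pat, Cfsg.Agent.LsF.icast_pat, Cfsg.Agent.LsF.and_eq, Cfsg.Agent.LsF.instIDecEq_eq, Cfsg.Agent.LsF.idecLt_eq, Cfsg.Agent.LsF.length_eq,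 Cfsg.Agent.LsF.decide_eq]; exact rfl) | exact rfl⟩
private noncomputable def _root_.Cfsg.Agent.LsF.f83f0b1_61 : {f // @Cfsg.Agent.MO.WC.Tb.eigOK = f} := ⟨_, by first | (delta Cfsg.Agent.MO.WC.Tb.eigOK; rewrite [Cfsg.Agent.LsF.f83f0b1_0.2, Cfsg.Agent.LsF.f83f0b1_60.2, Cfsg.Agent.LsF.f83f0b1_46.2, Cfsg.Agent.LsF.f83f0b1_45.2, Cfsg.Agent.LsF.f83f0b1_50.2, Cfsg.Agent.LsF.nadd_pat, Cfsg.Agent.LsF.iadd_pat, Cfsg.Agent.LsF.map_eq]; exact rfl) | exact rfl⟩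
private noncomputable def _root_.Cfsg.Agent.LsF.f83f0b1_62 : {f // @Cfsg.Agent.MO.WC.runM = f} := ⟨_, by first | (delta Cfsg.Agent.MO.WC.runM; rewrite [Cfsg.Agent.LsF.cond_eq]; exact rfl) | exact rfl⟩
private noncomputable def _root_.Cfsg.Agent.LsF.f83f0b1_63 : {f // @Cfsg.Agent.MO.WC.mat = f} := ⟨_, by first | (delta Cfsg.Agent.MO.WC.mat; rewrite [Cfsg.Agent.LsF.f83f0b1_5.2, Cfsg.Agent.LsF.f83f0b1_4.2, Cfsg.Agent.LsF.map_eq, Cfsg.Agent.LsF.range_eq, Cfsg.Agent.LsF.sum_eq]; exact rfl) | exact rfl⟩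
private noncomputable def _root_.Cfsg.Agent.LsF.f83f0b1_64 : {f // @Cfsg.Agent.MO.WC.Gp.cjM = f} := ⟨_, by first | (delta Cfsg.Agent.MO.WC.Gp.cjM; rewrite [Cfsg.Agent.LsF.f83f0b1_62.2, Cfsg.Agent.LsF.f83f0b1_63.2, Cfsg.Agent.LsF.and_eq, Cfsg.Agent.LsF.map_eq]; exact rfl) | exact rfl⟩
private noncomputable def _root_.Cfsg.Agent.LsF.f83f0b1_65 : {f // @Cfsg.Agent.MO.WC.Gp.row1 = f} := ⟨_, by first | (delta Cfsg.Agent.MO.WC.Gp.row1; rewrite [Cfsg.Agent.LsF.f83f0b1_2.2, Cfsg.Agent.LsF.f83f0b1_64.2, Cfsg.Agent.LsF.f83f0b1_63.2]; exact rfl) | exact rfl⟩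
private noncomputable def _root_.Cfsg.Agent.LsF.f83f0b1_66 : {f // @Cfsg.Agent.MO.WC.Gp.rowOK = f} := ⟨_, by first | (delta Cfsg.Agent.MO.WC.Gp.rowOK; rewrite [Cfsg.Agent.LsF.f83f0b1_0.2, Cfsg.Agent.LsF.f83f0b1_65.2, Cfsg.Agent.LsF.nadd_pat]; exact rfl) | exact rfl⟩
private noncomputable def _root_.Cfsg.Agent.LsF.f83f0b1_67 : {f // @Cfsg.Agent.MO.WC.Gp.full = f} := ⟨_, by first | (delta Cfsg.Agent.MO.WC.Gp.full; rewrite [Cfsg.Agent.LsF.f83f0b1_34.2, Cfsg.Agent.LsF.f83f0b1_36.2, Cfsg.Agent.LsF.f83f0b1_40.2, Cfsg.Agent.LsF.f83f0b1_53.2, Cfsg.Agent.LsF.f83f0b1_57.2, Cfsg.Agent.LsF.f83f0b1_0.2, Cfsg.Agent.LsF.f83f0b1_61.2, Cfsg.Agent.LsF.f83f0b1_66.2, Cfsg.Agent.LsF.and_eq, Cfsg.Agent.LsF.length_eq]; exact rfl) | exact rfl⟩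
private noncomputable def _root_.Cfsg.Agent.LsF.f83f0b1_68 : {f // @Cfsg.Agent.MO.WC.G26_D = f} := ⟨_, by first | (delta Cfsg.Agent.MO.WC.G26_D; rewrite [Cfsg.Agent.LsF.map_eq]; exact rfl) | exact rfl⟩
private noncomputable def _root_.Cfsg.Agent.LsF.f83f0b1_69 : {f // @Cfsg.Agent.MO.WC.G26_T = f} := ⟨_, by first | (delta Cfsg.Agent.MO.WC.G26_T; rewrite [Cfsg.Agent.LsF.map_eq]; exact rfl) | exact rfl⟩
theorem G26_good : G26_D.Good E7.toTy G26_T := Gp.good_of_full E7_good.ok ok12 (unz 2 0x28a000000002800)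
    [.unit 5 [(1, 0)], .unit 23 [(1, 0)], .unit 25 [(1, 0)], .prod 23 23 (unz 2 0xa000000000a00000000), .unit 35 [(1,
    0)], .unit 16 [(1, 0)], .prod 35 35 (unz 2 0x500014004ca000a00000000000), .unit 22 [(1, 0)], .unit 45 [(1, 0)],
    .unit 37 [(1, 0)], .unit 29 [(1, 0)], .prod 16 45 (unz 2 0x2a8a00000000028000000000), .unit 41 [(1, 0)], .unit 39
    [(1, 0)], .unit 19 [(1, 0)], .unit 42 [(1, 0)], .prod 16 39 (unz 2 0x2800002800a000000a0000000), .unit 33 [(1, 0)],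
    .unit 44 [(1, 0)], .unit 14 [(1, 0)], .unit 27 [(1, 0)], .prod 23 39 (unz 2 0x280000000a2800000028000000), .unit 28
    [(1, 0)], .unit 46 [(1, 0)], .unit 13 [(1, 0)], .unit 30 [(1, 0)], .prod 28 45 (unz 2
    0x6c0000028a002a8000a280000000), .unit 17 [(1, 0)], .unit 26 [(1, 0)], .unit 15 [(1, 0)], .unit 34 [(1, 0)], .unit
    32 [(1, 0)], .prod 13 44 (unz 2 0xa0a28000000000a000000000), .unit 43 [(1, 0)], .unit 18 [(1, 0)], .unit 38 [(1,
    0)], .unit 40 [(1, 0)], .prod 26 45 (unz 2 0x4c264c00000000000028a28000), .unit 9 [(1, 0)], .unit 11 [(1, 0)], .unit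
    7 [(1, 0)], .prod 7 18 (unz 2 0xa28a000), .unit 6 [(1, 0)], .unit 10 [(1, 0)], .unit 8 [(1, 0)], .prod 28 43 (unz 2
    0x26000500144c00028000a000000), .unit 31 [(1, 0)], .unit 12 [(1, 0)], .unit 20 [(1, 0)], .prod 14 17 (unz 2
    0x28000000280000000000), .unit 21 [(1, 0)], .unit 36 [(1, 0)], .prod 18 18 (unz 2 0x130000000a28a), .unit 4 [(1,
    0)], .unit 2 [(1, 0)], .prod 18 19 (unz 2 0x4c0000028a28), .unit 1 [(1, 0)], .unit 3 [(1, 0)], .prod 1 15 (unz 2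
    0xa000000000000), .unit 24 [(1, 0)], .prod 1 44 (unz 2 0x2800000000000000000000000), .unit 47 [(1, 0)]]
  (by ((try (rewrite [Cfsg.Agent.LsF.f83f0b1_67.2, Cfsg.Agent.LsF.f83f0b1_68.2, Cfsg.Agent.LsF.f83f0b1_25.2, Cfsg.Agent.LsF.f83f0b1_69.2, Cfsg.Agent.LsF.f83f0b1_24.2])); decide +kernel))

theorem cenK_E7_46 : CenK E7 46
    [1, 1, 1, 1, 1, 1, 2, 2, 2, 2, 2, 2, 3, 3, 3, 3, 3, 3, 3, 3, 3, 3, 3, 3, 3, 3, 6, 6, 6, 6, 6, 6, 6, 6, 6, 6, 6, 6,
    8, 8, 8, 8, 8, 8, 9, 9, 9, 9] :=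
  cenK_of G26_good E7_good 0x1204312032431543165431203243154320654312345 0x13431205431203243562e
    (by decide +kernel)

theorem cenK_E7_54 : CenK E7 54
    [1, 1, 1, 1, 1, 1, 2, 2, 2, 2, 2, 2, 3, 3, 3, 3, 3, 3, 3, 3, 3, 3, 3, 3, 3, 3, 6, 6, 6, 6, 6, 6, 6, 6, 6, 6, 6, 6,
    8, 8, 8, 8, 8, 8, 9, 9, 9, 9] :=
  cenK_of G26_good E7_good 0x1013120325431203243546 0x101314636
    (by decide +kernel)

theorem cenK_E7_33 : CenK E7 33 (List.replicate 14 1) := cenK_cyc E7_good 0x1012031203243123454312032431565431203243154320654312 (by decide +kernel)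

theorem cenK_E7_35 : CenK E7 35 (List.replicate 18 1) := cenK_cyc E7_good 0x1013205654312032431543206543123456 (by decide +kernel)

theorem cenK_E7_49 : CenK E7 49 (List.replicate 14 1) := cenK_cyc E7_good 0x1654312032 (by decide +kernel)

theorem cenK_E7_48 : CenK E7 48 (List.replicate 18 1) := cenK_cyc E7_good 0x16543120 (by decide +kernel)

namespace N96

noncomputable section

def a0 : Q := ⟨1, 0, 0, 0⟩
def b0 : Q := ⟨0, 0, 0, 0⟩
def c0 : Q := ⟨-1, 0, 0, 0⟩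
def d0 : Q := ⟨0, 0, 0, -1⟩
def e0 : Q := ⟨0, 0, 0, 1⟩
def f0 : Q := ⟨2, 0, 0, 0⟩
def g0 : Q := ⟨3, 0, 0, 0⟩
def h0 : Q := ⟨-2, 0, 0, 0⟩
def i0 : Q := ⟨0, 0, 0, 2⟩
def j0 : Q := ⟨0, 0, 0, -2⟩
def k0 : Q := ⟨-1, 0, 0, -1⟩
def l0 : Q := ⟨-1, 0, 0, 1⟩
def m0 : Q := ⟨1, 0, 0, -1⟩
def n0 : Q := ⟨1, 0, 0, 1⟩
def o0 : Q := ⟨-3, 0, 0, 0⟩
def p0 : Q := ⟨4, 0, 0, 0⟩
def q0 : Q := ⟨0, 0, 0, -4⟩
def r0 : Q := ⟨0, 0, 0, 4⟩
def s0 : Q := ⟨-4, 0, 0, 0⟩
def t0 : Q := ⟨6, 0, 0, 0⟩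
def u0 : Q := ⟨-6, 0, 0, 0⟩
def v0 : Q := ⟨0, 0, 0, -6⟩
def w0 : Q := ⟨0, 0, 0, 6⟩
def x0 : Q := ⟨-3, 0, 0, -3⟩
def y0 : Q := ⟨-3, 0, 0, 3⟩
def z0 : Q := ⟨3, 0, 0, -3⟩
def a1 : Q := ⟨3, 0, 0, 3⟩

def c_0 : List Q := [a0, a0, a0, a0, f0, f0, f0, f0, f0, f0, g0, g0, g0, g0, p0, p0]
def c_1 : List Q := [a0, c0, d0, e0, k0, l0, b0, b0, m0, n0, c0, d0, e0, a0]
def c_2 : List Q := [a0, c0, e0, d0, l0, k0, b0, b0, n0, m0, c0, e0, d0, a0]
def c_3 : List Q := [a0, a0, c0, c0, d0, e0, c0, a0, e0, d0, b0, b0, b0, b0, d0, e0]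
def c_4 : List Q := [a0, a0, c0, c0, b0, b0, f0, h0, b0, b0, c0, a0, a0, c0]
def c_5 : List Q := [a0, a0, c0, c0, e0, d0, c0, a0, d0, e0, b0, b0, b0, b0, e0, d0]
def c_6 : List Q := [a0, c0, d0, e0, b0, b0, b0, b0, b0, b0, a0, e0, d0, c0]
def c_7 : List Q := [a0, c0, e0, d0, b0, b0, b0, b0, b0, b0, a0, d0, e0, c0]
def c_8 : List Q := [a0, a0, a0, a0, a0, a0, c0, c0, a0, a0, b0, b0, b0, b0, c0, c0]
def c_9 : List Q := [a0, a0, a0, a0, b0, b0, f0, f0, b0, b0, c0, c0, c0, c0]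
def c_10 : List Q := [a0, a0, c0, c0, i0, j0, f0, h0, j0, i0, g0, o0, o0, g0, q0, r0]
def c_11 : List Q := [a0, a0, c0, c0, j0, i0, f0, h0, i0, j0, g0, o0, o0, g0, r0, q0]
def c_12 : List Q := [a0, c0, d0, e0, n0, m0, b0, b0, l0, k0, c0, d0, e0, a0]
def c_13 : List Q := [a0, c0, e0, d0, m0, n0, b0, b0, k0, l0, c0, e0, d0, a0]
def c_14 : List Q := [a0, a0, a0, a0, c0, c0, c0, c0, c0, c0, b0, b0, b0, b0, a0, a0]
def c_15 : List Q := [a0, a0, a0, a0, h0, h0, f0, f0, h0, h0, g0, g0, g0, g0, s0, s0]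
def c_16 : List Q := [t0, u0, v0, w0, x0, y0, b0, b0, z0, a1, h0, j0, i0, f0]

end

end N96

open N96 in
noncomputable def N96_T : Tb where
  f := F12
  K := 16
  nu := 96
  n := [1, 6, 6, 8, 6, 8, 12, 12, 8, 6, 1, 1, 6, 6, 8, 1]
  XC := [c_0, c_1, c_2, c_3, c_4, c_5, c_6, c_7, c_8, c_9, c_10, c_11, c_12, c_13, c_14, c_15]
  rows := [(List.map (unp 5) [0x8880c6602da00b6202d900b6029, 0x852600ad82a6000b1882b6089, 0x8804c6010d84260011198436009,
    0x83a6020f19013600ed8126804d, 0x86a600ed83a6000f18803c6049, 0x906b681ad8083c61a983a600ed,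
    0x882b60a990236089881b6069, 0x872601cd84a6201318426010d, 0x8103460040d5800835622031a00b6602d,
    0x8008356001918003460040d5980b62000d5, 0x8886c661ada06b621ad906b61a9, 0x8126404d88136804d9813622051,
    0x881b6408d8881c606985a6406d, 0x87a6001d18073661cd872620131, 0x80636418d800646040d180083560040d5,
    0x8806461898000656018d800646418d])]
  lev := [c_16]
  b := 4
  B := 128

noncomputable def N96_D : Gp where
  Ls := [0x10203143, 0x13143543165432, 0x120543123654312032, 0x103123431235431236543123, 0x10231435431203265431203243,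
    0x10543123456543120324315432]
  rw := (unp 8
    0x810189019218901921aa189019218aa19032a189019218aa19032a1891a2f8c0950c480c90c550d950c480c90c550c81950c48e8604624686246a862468aca8624064862a8651b231234312032543120326543120324354658d91891a1890192a1891a2b2a18901a2bcc08c50d50c48d15950c480c90c550c9e60406286a862468aca8624064862a86f30543120326543120324351812a1891b2a18919ec8c48d0c480d5194f6040a862ca86463023123431203319018a1902a3298c0c50c807604062863b01)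
  rh := (unp 5 0x9810c6420118813620045591088066a09808846020118083600445580a600988880066000d8161)
  cod := (unp 6
    0x827a827a7e827fbc132414441413ede09d209ea7a097ef050d04dcfd05437829082766e829fbc1364143494131de09ba0a61ba09cef04d105190904ff7827082888c8273bc147413b3e414bde09d20a41f209def051d04f51504e77828682886a8295bc145413b47413fde0a1a0a19fa09def050505050505077)
  tw := (List.map (unp 7)
    [0x82a1891a2b2a189019218aa19658118a1aa18901932a18901921e5902a1891b2a1890194581891a1891aa1891b2a1891dd98a1aa18b2a193581018a19d])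
  th := (List.map (unp 3) [0xada5959d8d85])

private noncomputable def _root_.Cfsg.Agent.LsF.f83f0b1_70 : {f // @Cfsg.Agent.MO.WC.N96_D = f} := ⟨_, by first | (delta Cfsg.Agent.MO.WC.N96_D; rewrite [Cfsg.Agent.LsF.map_eq]; exact rfl) | exact rfl⟩
private noncomputable def _root_.Cfsg.Agent.LsF.f83f0b1_71 : {f // @Cfsg.Agent.MO.WC.N96_T = f} := ⟨_, by first | (delta Cfsg.Agent.MO.WC.N96_T; rewrite [Cfsg.Agent.LsF.map_eq]; exact rfl) | exact rfl⟩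
theorem N96_good : N96_D.Good E7.toTy N96_T := Gp.good_of_full E7_good.ok ok12 (unz 2 0xaa2800a)
    [.unit 6 [(1, 0)], .unit 8 [(1, 0)], .unit 9 [(1, 0)], .prod 8 8 (unz 2 0xa0000a0), .unit 2 [(1, 0)], .unit 11 [(1,
    0)], .prod 11 11 (unz 2 0xa0a028028), .unit 1 [(1, 0)], .unit 10 [(1, 0)], .unit 13 [(1, 0)], .prod 10 11 (unz 2
    0x2a80a0280), .unit 7 [(1, 0)], .unit 12 [(1, 0)], .unit 3 [(1, 0)], .prod 8 10 (unz 2 0x280002800), .unit 5 [(1,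
    0)], .unit 14 [(1, 0)], .prod 5 12 (unz 2 0xa00000a00), .unit 4 [(1, 0)], .unit 15 [(1, 0)]]
  (by ((try (rewrite [Cfsg.Agent.LsF.f83f0b1_67.2, Cfsg.Agent.LsF.f83f0b1_70.2, Cfsg.Agent.LsF.f83f0b1_25.2, Cfsg.Agent.LsF.f83f0b1_71.2, Cfsg.Agent.LsF.f83f0b1_24.2])); decide +kernel))

theorem N96_dg {I W : Type} [Fintype I] [DecidableEq I] [Group W] [Fintype W] {M : CoxeterMatrix I}
    {cs : CoxeterSystem M W} {A : I → I → ℤ}
    {h : ChevalleyStructure.CoxeterGeom.IsCartan M A} {ψ : MulAut W} {em : ℕ → I} {J : Set I} {w : W}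
    (F : Fit cs h ψ E7.toTy em J w) : Nat.card (N96_D.H E7.toTy cs em) = 96 ∧ Dg (N96_D.H E7.toTy cs em)
    [1, 1, 1, 1, 2, 2, 2, 2, 2, 2, 3, 3, 3, 3, 4, 4] := N96_good.dg F (by decide +kernel)

namespace N32

noncomputable section

def a0 : Q := ⟨1, 0, 0, 0⟩
def b0 : Q := ⟨-1, 0, 0, 0⟩
def c0 : Q := ⟨0, 0, 0, 0⟩
def d0 : Q := ⟨2, 0, 0, 0⟩
def e0 : Q := ⟨0, 0, 0, -1⟩
def f0 : Q := ⟨0, 0, 0, 1⟩
def g0 : Q := ⟨-2, 0, 0, 0⟩
def h0 : Q := ⟨0, 0, 0, -2⟩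
def i0 : Q := ⟨0, 0, 0, 2⟩
def j0 : Q := ⟨-1, 0, 0, -1⟩
def k0 : Q := ⟨-1, 0, 0, 1⟩
def l0 : Q := ⟨1, 0, 0, -1⟩
def m0 : Q := ⟨1, 0, 0, 1⟩
def n0 : Q := ⟨4, 0, 0, 0⟩
def o0 : Q := ⟨-4, 0, 0, 0⟩

def c_0 : List Q := [a0, a0, a0, a0, a0, a0, a0, a0, d0, d0, d0, d0, d0, d0]
def c_1 : List Q := [a0, b0, b0, b0, b0, a0, a0, a0]
def c_2 : List Q := [a0, b0, e0, f0, a0, b0, e0, f0]
def c_3 : List Q := [a0, b0, f0, e0, a0, b0, f0, e0]
def c_4 : List Q := [a0, a0, f0, e0, b0, b0, e0, f0, j0, k0, c0, c0, l0, m0]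
def c_5 : List Q := [a0, a0, e0, f0, b0, b0, f0, e0, k0, j0, c0, c0, m0, l0]
def c_6 : List Q := [a0, a0, b0, b0, a0, a0, b0, b0, c0, c0, g0, d0]
def c_7 : List Q := [a0, b0, a0, a0, b0, a0, b0, b0]
def c_8 : List Q := [a0, a0, a0, a0, a0, a0, a0, a0, c0, c0, g0, g0]
def c_9 : List Q := [a0, a0, b0, b0, a0, a0, b0, b0, h0, i0, d0, g0, i0, h0]
def c_10 : List Q := [a0, a0, b0, b0, a0, a0, b0, b0, i0, h0, d0, g0, h0, i0]
def c_11 : List Q := [a0, a0, f0, e0, b0, b0, e0, f0, m0, l0, c0, c0, k0, j0]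
def c_12 : List Q := [a0, a0, e0, f0, b0, b0, f0, e0, l0, m0, c0, c0, j0, k0]
def c_13 : List Q := [a0, a0, a0, a0, a0, a0, a0, a0, g0, g0, d0, d0, g0, g0]
def c_14 : List Q := [d0, d0, i0, h0, g0, g0, h0, i0, j0, k0, c0, c0, l0, m0]
def c_15 : List Q := [n0, o0, o0, o0, o0, n0, n0, n0]

end

end N32

open N32 in
noncomputable def N32_T : Tb where
  f := F12
  K := 14
  nu := 32
  n := [1, 4, 4, 4, 2, 2, 2, 4, 2, 1, 1, 2, 2, 1]
  XC := [c_0, c_1, c_2, c_3, c_4, c_5, c_6, c_7, c_8, c_9, c_10, c_11, c_12, c_13]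
  rows := [(List.map (unp 4) [0x2009b049, 0x2053002d, 0x200fb307d, 0x2603b019, 0x2153069, 0x2011b009, 0x2193059, 0x2407b039,
    0x20930b9, 0x20b3005d, 0x2019b0c9, 0x20d3099, 0x21b3008d, 0x217300bd]), (List.map (unp 5) [0x880b6402d980b6029,
    0x84261a980436009, 0x85a6016d80236089, 0x8063618982a600ad, 0x801362005190136049, 0x8801c6406d81a6006d,
    0x983b60e9883b600ed, 0x85260c984a600cd, 0x80a6202d900b6602d, 0x803b660ed83a620ed, 0x83a620ed803b660ed,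
    0x8126004d880146404d, 0x901b6069801b620071, 0x980b6029880b6402d])]
  lev := [c_14, c_15]
  b := 2
  B := 64

noncomputable def N32_D : Gp where
  Ls := [0x1023123431203, 0x120312343120325465, 0x1254312345654312345, 0x131234312354312365431203,
    0x1023120324312032435431234565431203243154320, 0x1231432543120324315432065431203243154320654312345]
  rw := (unp 8
    0x2040624064862406486a8624064862a8640ca8624064862a8640ca862468be320314320543120324565431203243154320659581018a1902a18901922b2a189019218aa1932cac8c48d0c480c950c48d15950c480d15e6046286a862468aca8624064862a864f30231234312032543123456543123457981018a1aa1891a2b2a189019218aa1bcc80c48d0c48d50c48d15950c480c915e640a86246ca86240648b2031234312032546545812a1891b2a18919ec8c48d0c480d5194f60462468624066301)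
  rh := (unp 5 0xa826622d8813662990884604988836229888b6258888460298161)
  cod := (unp 6
    0x209ea09e9fa09fef04f50510c1053f7827a828a7c8263bc148413b37414fde09b20a1a4a098ef052104f11504c77826e82986e8273bc13d414c2f4141de09b20a51d20a0ef0521050cd905077827082888c8273bc147413b3e414bde0a3a09ea2a09cef050505050505077)
  tw := (List.map (unp 8) [0x2624686246a86246ca862406bb2031234312032546545,
    0x81189019218901921aa1891a2b2a189019218aa19054c8c50c950c480c90c550c81950c480c90c550c81950c48d17064a862468aca862468a9302312343120331])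
  th := (List.map (unp 3) [0x9d8d, 0xa5ad9585])

private noncomputable def _root_.Cfsg.Agent.LsF.f83f0b1_72 : {f // @Cfsg.Agent.MO.WC.N32_D = f} := ⟨_, by first | (delta Cfsg.Agent.MO.WC.N32_D; rewrite [Cfsg.Agent.LsF.map_eq]; exact rfl) | exact rfl⟩
private noncomputable def _root_.Cfsg.Agent.LsF.f83f0b1_73 : {f // @Cfsg.Agent.MO.WC.N32_T = f} := ⟨_, by first | (delta Cfsg.Agent.MO.WC.N32_T; rewrite [Cfsg.Agent.LsF.map_eq]; exact rfl) | exact rfl⟩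
theorem N32_good : N32_D.Good E7.toTy N32_T := Gp.good_of_full E7_good.ok ok12 (unz 2 0x1540014013)
    [.unit 5 [(1, 0)], .unit 12 [(1, 0)], .unit 13 [(1, 0)], .prod 12 12 (unz 2 0x28028280), .unit 3 [(1, 0)], .unit 6
    [(1, 0)], .unit 11 [(1, 0)], .prod 12 13 (unz 2 0xa0000aa), .unit 10 [(1, 0)], .unit 1 [(1, 0)], .prod 13 13 (unz 2
    0x280a00a0), .unit 2 [(1, 0)], .unit 7 [(1, 0)], .prod 1 5 (unz 2 0xa00), .unit 4 [(1, 0)], .prod 2 13 (unz 2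
    0x280000), .unit 9 [(1, 0)], .prod 2 9 (unz 2 0xa0000), .unit 8 [(1, 0)]]
  (by ((try (rewrite [Cfsg.Agent.LsF.f83f0b1_67.2, Cfsg.Agent.LsF.f83f0b1_72.2, Cfsg.Agent.LsF.f83f0b1_25.2, Cfsg.Agent.LsF.f83f0b1_73.2, Cfsg.Agent.LsF.f83f0b1_24.2])); decide +kernel))

theorem N32_dg {I W : Type} [Fintype I] [DecidableEq I] [Group W] [Fintype W] {M : CoxeterMatrix I}
    {cs : CoxeterSystem M W} {A : I → I → ℤ}
    {h : ChevalleyStructure.CoxeterGeom.IsCartan M A} {ψ : MulAut W} {em : ℕ → I} {J : Set I} {w : W}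
    (F : Fit cs h ψ E7.toTy em J w) : Nat.card (N32_D.H E7.toTy cs em) = 32 ∧ Dg (N32_D.H E7.toTy cs em)
    [1, 1, 1, 1, 1, 1, 1, 1, 2, 2, 2, 2, 2, 2] := N32_good.dg F (by decide +kernel)

end Cfsg.Agent.MO.WC
end

-- part: MO/Nr/Main
section
/-! # MO/Nr: the eleven entries, generated data (helper47, `tools/P3/h47/gen.py`) -/

set_option autoImplicit false
set_option maxRecDepth 100000

namespace Cfsg.Agent.MO.Rc

open Cfsg.Agent.LV.W Cfsg.Agent.MO.U Cfsg.Agent.MO.WC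

section

open Cfsg.Agent.LV.Enum

private theorem dot_rep (a : ℤ) (r : List ℤ) (k : ℕ) (y : List ℤ) :
    dot (List.replicate k 0 ++ a :: r) y = a * nth 0 y k + dot r (y.drop (k + 1)) := by
  induction k generalizing y with
  | zero => cases y with
    | nil => cases r <;> exact ((add_zero _).trans (mul_zero a)).symm
    | cons b y => rfl
  | succ k ih => cases y with
    | nil => cases r <;> exact ((add_zero _).trans (mul_zero a)).symm
    | cons b y => exact ((congrArg (· + _) (zero_mul b)).trans (zero_add _)).trans (ih y)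

/-- the pairing with a sparse vector -/
private def sd (c : List ℤ) (ps : List (ℤ × ℕ)) : ℕ → ℤ :=
  List.rec (fun _ => 0) (fun p _ ih i => fn (Nat.add i (p.2 - 1)) fun j => Int.add (Int.mul p.1 (nth 0 c j)) (ih j.succ)) ps

private theorem sd_eq (c : List ℤ) (ps : List (ℤ × ℕ)) (i : ℕ) :
    sd c ps i = dot (List.rec [] (fun p _ ih => List.replicate (p.2 - 1) 0 ++ p.1 :: ih) ps) (c.drop i) := by
  induction ps generalizing i with
  | nil => cases c.drop i <;> rfl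
  | cons p ps ih =>
    show (fn (i + (p.2 - 1)) fun j => p.1 * nth 0 c j + sd c ps (j + 1)) = dot (List.replicate (p.2 - 1) 0 ++ p.1 :: _) _
    rw [fn_eq, dot_rep, List.drop_drop, nth_eq 0 (c.drop i), List.getD_eq_getElem?_getD, List.getElem?_drop, ← List.getD_eq_getElem?_getD,
      ← nth_eq]
    exact congrArg _ (ih _)

private def ryF (T : XT) (ns : List ℕ) (D : LV.W.Emb) (u l : ℕ) : ℤ :=
  sd (T.L.col (Nat.mod (nth 0 D.fus l) 256)) (unv 4 (nth 0 ns u)) 0 / T.N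

private theorem ry_eq {T : XT} {ns : List ℕ} (h : T.V = ns.map spv) (D : LV.W.Emb) : ryF T ns D = ry T D := by
  funext u l
  have e : nth [] (ns.map spv) u = spv (nth 0 ns u) := by
    clear h
    induction ns generalizing u with
    | nil => rfl
    | cons a ns ih => cases u with
      | zero => rfl
      | succ u => exact ih u
  show _ = dot (nth [] T.V u) _ / _
  rw [h, e, ryF, sd_eq]
  rfl

variable (y : ℕ → ℕ → ℤ) (T : XT) (nd : Nd) (D : LV.W.Emb)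

private def gnP (u φ : ℕ) : ℕ := ((sumLt nd.K fun l => nd.n l * nd.X φ l * y u l) / nd.ν 0).natAbs

private def resP : Bool := allLt nd.K fun φ => (List.range T.nu).any fun u => Nat.blt 0 (T.m u) &&
  (allLt nd.K (fun l => decide (y u l = nd.X φ l)) || allLt nd.K fun l => decide (-y u l = nd.X φ l))

private def degP (φ c : ℕ) (ds : List ℕ) : Bool :=
  allLt T.nu (fun u => Nat.blt (gnP y nd u φ) 5) && ds.all (fun d => Nat.blt d 5) &&
  allLt 5 (fun n => Nat.beq n 0 ||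
    decide ((sumLt T.nu fun u => T.m u * if gnP y nd u φ = n then 1 else 0) = ds.count n)) &&
  decide ((sumLt T.nu fun u => T.m u * (gnP y nd u φ : ℤ) ^ 2) = c)

private def supP (b : ℕ → ℕ) : Bool := allLt T.nu fun u => allLt nd.K fun φ => Nat.beq (gnP y nd u φ) 0 ||
  allLt nd.K fun φ' => Nat.beq (gnP y nd u φ') 0 || Nat.beq (b φ) (b φ')

private def cycP (c e : ℕ) : Bool :=
  supP y T nd id && permOK T nd D c &&
  Nat.beq (run T.L.nd.tab D.x (run T.L.nd.tbs c T.L.nd.n0)) (run T.L.nd.tab c (run T.L.nd.tab D.x T.L.nd.n0)) &&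
  Nat.blt 0 e && Nat.beq (itN T c e) T.L.nd.n0 && allLt e (fun m => Nat.beq m 0 || !Nat.beq (itN T c m) T.L.nd.n0) &&
  allLt nd.K fun φ => degP y T nd φ e (List.replicate e 1)

private def actP (n b c : ℕ → ℕ) (Ls ds : ℕ → List ℕ) : Bool :=
  supP y T nd b && allLt nd.K fun φ => mvOK T nd D (n φ) φ (b φ) && degP y T nd φ (c φ) (ds φ) &&
    (Ls φ).all fun h => permOK T nd D h && mvOK T nd D h (b φ) (b φ)

variable {T nd D} {ns : List ℕ}

private theorem lin_of {c e : ℕ} (h : T.V = ns.map spv)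
    (H : (baseOK T nd D && linOK nd && cycP (ryF T ns D) T nd D c e) = true) :
    (baseOK T nd D && linOK nd && cycOK T nd D c e) = true := by
  rw [ry_eq h] at H; exact H

private theorem int_of {c e : ℕ} {β : List (List ℤ)} (h : T.V = ns.map spv)
    (H : (baseOK T nd D && (intOK nd β && resP (ryF T ns D) T nd) && cycP (ryF T ns D) T nd D c e) = true) :
    (baseOK T nd D && (intOK nd β && resOK T nd D) && cycOK T nd D c e) = true := by
  rw [ry_eq h] at H; exact H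

private theorem act_of {n b c : ℕ → ℕ} {Ls ds : ℕ → List ℕ} (h : T.V = ns.map spv)
    (H : (baseOK T nd D && linOK nd && actP (ryF T ns D) T nd D n b c Ls ds) = true) :
    (baseOK T nd D && linOK nd && actOK T nd D n b c Ls ds) = true := by
  rw [ry_eq h] at H; exact H

end

def D_E6_5 : LV.W.Emb where
  io := [0]
  tbi := 0xfffe00
  x := 0x1312043123543120324
  fus := [0x123123431234543123407,
    0x14312032431543111]

theorem ent_E6_5 (FK : BoxFK) : Ent tabs E6_tb [0] 0x1312043123543120324 :=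
  ent_lin (nd := A1) (D := D_E6_5) FK (by simp [mem_tabs]) A1_good 0x1312043123543120324 5
    (E6_tb_eq ▸ lin_of (T := E6_tb2) rfl (by decide +kernel))

def D_E6_514320_10 : LV.W.Emb where
  io := [0]
  tbi := 0xfffe00
  x := 0x120324312543
  fus := [0x112312343123543120324508,
    0x1013143205431203243154312]

theorem ent_E6_514320_10 (FK : BoxFK) : Ent tabs E6_514320_tb [0] 0x120324312543 :=
  ent_lin (nd := A1) (D := D_E6_514320_10) FK (by simp [mem_tabs]) A1_good 0x1120312343120324543 5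
    (E6_514320_tb_eq ▸ lin_of (T := E6_514320_tb2) rfl (by decide +kernel))

def D_E7_4 : LV.W.Emb where
  io := [1, 4, 6]
  tbi := 0xfffffffffffffffffffe010000000000300000000000000000000000fe010000002000000000000000000000000000fffe0008
  x := 0x1023143543123456543120324315432
  fus := [0x101320431234543123456543120324560a,
    0x14312032436543120324315432065431217,
    0x1132043123654312032431543206543217,
    0x12032043205431234565431203243154317,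
    0x113165431203243154320654322b,
    0x1043120324315431203465431203243152b,
    0x10132043123454312034654312032431562b,
    0x102031234563a]

private noncomputable def _root_.Cfsg.Agent.LsF.f83f0b1_74 : {f // @Cfsg.Agent.LV.W.tabOK = f} := ⟨_, by first | (delta Cfsg.Agent.LV.W.tabOK; rewrite [Cfsg.Agent.LsF.f83f0b1_0.2, Cfsg.Agent.LsF.f83f0b1_17.2, Cfsg.Agent.LsF.nmul_pat, Cfsg.Agent.LsF.nmod_pat, Cfsg.Agent.LsF.iadd_pat, Cfsg.Agent.LsF.imul_pat, Cfsg.Agent.LsF.imod_pat, Cfsg.Agent.LsF.icast_pat, Cfsg.Agent.LsF.and_eq, Cfsg.Agent.LsF.instDecEq_eq, Cfsg.Agent.LsF.decLt_eq, Cfsg.Agent.LsF.instIDecEq_eq, Cfsg.Agent.LsF.ite_eq, Cfsg.Agent.LsF.decide_eq]; exact rfl) | exact rfl⟩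
private noncomputable def _root_.Cfsg.Agent.LsF.f83f0b1_75 : {f // @Cfsg.Agent.LV.W.fitOK = f} := ⟨_, by first | (delta Cfsg.Agent.LV.W.fitOK; rewrite [Cfsg.Agent.LsF.f83f0b1_74.2, Cfsg.Agent.LsF.f83f0b1_0.2, Cfsg.Agent.LsF.f83f0b1_4.2, Cfsg.Agent.LsF.and_eq, Cfsg.Agent.LsF.instIDecEq_eq, Cfsg.Agent.LsF.decide_eq]; exact rfl) | exact rfl⟩
private noncomputable def _root_.Cfsg.Agent.LsF.f83f0b1_76 : {f // @Cfsg.Agent.LV.W.Nd.cj = f} := ⟨_, by first | (delta Cfsg.Agent.LV.W.Nd.cj; rewrite [Cfsg.Agent.LsF.f83f0b1_4.2]; exact rfl) | exact rfl⟩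
private noncomputable def _root_.Cfsg.Agent.LsF.f83f0b1_77 : {f // @Cfsg.Agent.LV.W.embOK = f} := ⟨_, by first | (delta Cfsg.Agent.LV.W.embOK; rewrite [Cfsg.Agent.LsF.f83f0b1_75.2, Cfsg.Agent.LsF.f83f0b1_0.2, Cfsg.Agent.LsF.f83f0b1_76.2, Cfsg.Agent.LsF.f83f0b1_4.2, Cfsg.Agent.LsF.and_eq]; exact rfl) | exact rfl⟩
private noncomputable def _root_.Cfsg.Agent.LsF.f83f0b1_78 : {f // @Cfsg.Agent.MO.Rc.nuOK = f} := ⟨_, by first | (delta Cfsg.Agent.MO.Rc.nuOK; rewrite [Cfsg.Agent.LsF.f83f0b1_0.2, Cfsg.Agent.LsF.instIDecEq_eq, Cfsg.Agent.LsF.decide_eq]; exact rfl) | exact rfl⟩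
private noncomputable def _root_.Cfsg.Agent.LsF.f83f0b1_79 : {f // @Cfsg.Agent.MO.Rc.baseOK = f} := ⟨_, by first | (delta Cfsg.Agent.MO.Rc.baseOK; rewrite [Cfsg.Agent.LsF.f83f0b1_77.2, Cfsg.Agent.LsF.f83f0b1_78.2, Cfsg.Agent.LsF.f83f0b1_1.2, Cfsg.Agent.LsF.and_eq, Cfsg.Agent.LsF.instDecEq_eq, Cfsg.Agent.LsF.length_eq, Cfsg.Agent.LsF.decide_eq]; exact rfl) | exact rfl⟩
private noncomputable def _root_.Cfsg.Agent.LsF.f83f0b1_80 : {f // @Cfsg.Agent.LV.W.E7_bas = f} := ⟨_, by first | (delta Cfsg.Agent.LV.W.E7_bas; rewrite [Cfsg.Agent.LsF.f83f0b1_24.2, Cfsg.Agent.LsF.map_eq]; exact rfl) | exact rfl⟩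
private noncomputable def _root_.Cfsg.Agent.LsF.f83f0b1_81 : {f // @Cfsg.Agent.LV.W.unv = f} := ⟨_, by first | (delta Cfsg.Agent.LV.W.unv; rewrite [Cfsg.Agent.LsF.f83f0b1_22.2]; exact rfl) | exact rfl⟩
private noncomputable def _root_.Cfsg.Agent.LsF.f83f0b1_82 : {f // @Cfsg.Agent.LV.W.E7_inv = f} := ⟨_, by first | (delta Cfsg.Agent.LV.W.E7_inv; rewrite [Cfsg.Agent.LsF.f83f0b1_24.2, Cfsg.Agent.LsF.f83f0b1_81.2, Cfsg.Agent.LsF.map_eq, Cfsg.Agent.LsF.zip_eq]; exact rfl) | exact rfl⟩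
private noncomputable def _root_.Cfsg.Agent.LsF.f83f0b1_83 : {f // @Cfsg.Agent.LV.W.E7_L = f} := ⟨_, by first | (delta Cfsg.Agent.LV.W.E7_L; rewrite [Cfsg.Agent.LsF.f83f0b1_25.2, Cfsg.Agent.LsF.f83f0b1_80.2, Cfsg.Agent.LsF.f83f0b1_82.2]; exact rfl) | exact rfl⟩
private noncomputable def _root_.Cfsg.Agent.LsF.f83f0b1_84 : {f // @Cfsg.Agent.MO.U.E7_d = f} := ⟨_, by first | (delta Cfsg.Agent.MO.U.E7_d; rewrite [Cfsg.Agent.LsF.ndiv_pat, Cfsg.Agent.LsF.nmod_pat, Cfsg.Agent.LsF.npow_pat, Cfsg.Agent.LsF.ineg_pat, Cfsg.Agent.LsF.instDecEq_eq, Cfsg.Agent.LsF.map_eq, Cfsg.Agent.LsF.range_eq, Cfsg.Agent.LsF.ite_eq]; exact rfl) | exact rfl⟩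
private noncomputable def _root_.Cfsg.Agent.LsF.f83f0b1_85 : {f // @Cfsg.Agent.MO.U.E7_tb = f} := ⟨_, by first | (delta Cfsg.Agent.MO.U.E7_tb; rewrite [Cfsg.Agent.LsF.f83f0b1_83.2, Cfsg.Agent.LsF.f83f0b1_84.2, Cfsg.Agent.LsF.f83f0b1_24.2, Cfsg.Agent.LsF.map_eq]; exact rfl) | exact rfl⟩
private noncomputable def _root_.Cfsg.Agent.LsF.f83f0b1_86 : {f // @Cfsg.Agent.MO.U.spv = f} := ⟨_, by first | (delta Cfsg.Agent.MO.U.spv; rewrite [Cfsg.Agent.LsF.f83f0b1_81.2, Cfsg.Agent.LsF.nsub_pat, Cfsg.Agent.LsF.lappend_pat, Cfsg.Agent.LsF.replicate_eq]; exact rfl) | exact rfl⟩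
private noncomputable def _root_.Cfsg.Agent.LsF.f83f0b1_87 : {f // @Cfsg.Agent.MO.U.E7_tb2 = f} := ⟨_, by first | (delta Cfsg.Agent.MO.U.E7_tb2; rewrite [Cfsg.Agent.LsF.f83f0b1_85.2, Cfsg.Agent.LsF.f83f0b1_86.2, Cfsg.Agent.LsF.map_eq]; exact rfl) | exact rfl⟩
private noncomputable def _root_.Cfsg.Agent.LsF.f83f0b1_88 : {f // @Cfsg.Agent.LV.W.A1A1A1 = f} := ⟨_, by first | (delta Cfsg.Agent.LV.W.A1A1A1; rewrite [Cfsg.Agent.LsF.f83f0b1_24.2, Cfsg.Agent.LsF.map_eq]; exact rfl) | exact rfl⟩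
private noncomputable def _root_.Cfsg.Agent.LsF.f83f0b1_89 : {f // @Cfsg.Agent.MO.Rc.sgs = f} := ⟨_, by first | (delta Cfsg.Agent.MO.Rc.sgs; rewrite [Cfsg.Agent.LsF.ineg_pat, Cfsg.Agent.LsF.flatMap_eq]; exact rfl) | exact rfl⟩
private noncomputable def _root_.Cfsg.Agent.LsF.f83f0b1_90 : {f // @Cfsg.Agent.MO.Rc.wsg = f} := ⟨_, by first | (delta Cfsg.Agent.MO.Rc.wsg; rewrite [Cfsg.Agent.LsF.ndiv_pat, Cfsg.Agent.LsF.nmod_pat, Cfsg.Agent.LsF.imul_pat, Cfsg.Agent.LsF.decLe_eq, Cfsg.Agent.LsF.decLt_eq, Cfsg.Agent.LsF.ite_eq]; exact rfl) | exact rfl⟩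
private noncomputable def _root_.Cfsg.Agent.LsF.f83f0b1_91 : {f // @Cfsg.Agent.MO.Rc.linOK = f} := ⟨_, by first | (delta Cfsg.Agent.MO.Rc.linOK; rewrite [Cfsg.Agent.LsF.f83f0b1_0.2, Cfsg.Agent.LsF.f83f0b1_89.2, Cfsg.Agent.LsF.f83f0b1_90.2, Cfsg.Agent.LsF.and_eq, Cfsg.Agent.LsF.or_eq, Cfsg.Agent.LsF.not_eq, Cfsg.Agent.LsF.all_eq, Cfsg.Agent.LsF.any_eq, Cfsg.Agent.LsF.range_eq, Cfsg.Agent.LsF.instIDecEq_eq, Cfsg.Agent.LsF.decide_eq]; exact rfl) | exact rfl⟩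
private noncomputable def _root_.Cfsg.Agent.LsF.f83f0b1_92 : {f // @Cfsg.Agent.MO.U.Tb.nu = f} := ⟨_, by first | (delta Cfsg.Agent.MO.U.Tb.nu; rewrite [Cfsg.Agent.LsF.length_eq]; exact rfl) | exact rfl⟩
private noncomputable def _root_.Cfsg.Agent.LsF.f83f0b1_93 : {f // @Cfsg.Agent.MO.Rc.gnP = f} := ⟨_, by first | (delta Cfsg.Agent.MO.Rc.gnP; rewrite [Cfsg.Agent.LsF.f83f0b1_17.2, Cfsg.Agent.LsF.imul_pat, Cfsg.Agent.LsF.natAbs_eq]; exact rfl) | exact rfl⟩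
private noncomputable def _root_.Cfsg.Agent.LsF.f83f0b1_94 : {f // @Cfsg.Agent.MO.Rc.supP = f} := ⟨_, by first | (delta Cfsg.Agent.MO.Rc.supP; rewrite [Cfsg.Agent.LsF.f83f0b1_0.2, Cfsg.Agent.LsF.f83f0b1_92.2, Cfsg.Agent.LsF.f83f0b1_93.2, Cfsg.Agent.LsF.or_eq]; exact rfl) | exact rfl⟩
private noncomputable def _root_.Cfsg.Agent.LsF.f83f0b1_95 : {f // @Cfsg.Agent.MO.Rc.clN = f} := ⟨_, by first | (delta Cfsg.Agent.MO.Rc.clN; rewrite [Cfsg.Agent.LsF.f83f0b1_4.2]; exact rfl) | exact rfl⟩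
private noncomputable def _root_.Cfsg.Agent.LsF.f83f0b1_96 : {f // @Cfsg.Agent.MO.Rc.mvOK = f} := ⟨_, by first | (delta Cfsg.Agent.MO.Rc.mvOK; rewrite [Cfsg.Agent.LsF.f83f0b1_0.2, Cfsg.Agent.LsF.f83f0b1_95.2, Cfsg.Agent.LsF.f83f0b1_4.2, Cfsg.Agent.LsF.and_eq, Cfsg.Agent.LsF.any_eq, Cfsg.Agent.LsF.range_eq, Cfsg.Agent.LsF.instIDecEq_eq, Cfsg.Agent.LsF.decide_eq]; exact rfl) | exact rfl⟩
private noncomputable def _root_.Cfsg.Agent.LsF.f83f0b1_97 : {f // @Cfsg.Agent.MO.Rc.degP = f} := ⟨_, by first | (delta Cfsg.Agent.MO.Rc.degP; rewrite [Cfsg.Agent.LsF.f83f0b1_0.2, Cfsg.Agent.LsF.f83f0b1_92.2, Cfsg.Agent.LsF.f83f0b1_93.2, Cfsg.Agent.LsF.f83f0b1_17.2, Cfsg.Agent.LsF.instNBEq_pat, Cfsg.Agent.LsF.imul_pat, Cfsg.Agent.LsF.icast_pat, Cfsg.Agent.LsF.and_eq, Cfsg.Agent.LsF.or_eq, Cfsg.Agent.LsF.instDecEq_eq, Cfsg.Agent.LsF.all_eq, Cfsg.Agent.LsF.count_eq, Cfsg.Agent.LsF.instIDecEq_eq, Cfsg.Agent.LsF.ite_eq,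 Cfsg.Agent.LsF.decide_eq]; exact rfl) | exact rfl⟩
private noncomputable def _root_.Cfsg.Agent.LsF.f83f0b1_98 : {f // @Cfsg.Agent.MO.Rc.permOK = f} := ⟨_, by first | (delta Cfsg.Agent.MO.Rc.permOK; rewrite [Cfsg.Agent.LsF.f83f0b1_0.2, Cfsg.Agent.LsF.f83f0b1_4.2, Cfsg.Agent.LsF.f83f0b1_5.2, Cfsg.Agent.LsF.cond_eq, Cfsg.Agent.LsF.any_eq, Cfsg.Agent.LsF.range_eq]; exact rfl) | exact rfl⟩
private noncomputable def _root_.Cfsg.Agent.LsF.f83f0b1_99 : {f // @Cfsg.Agent.MO.Rc.actP = f} := ⟨_, by first | (delta Cfsg.Agent.MO.Rc.actP; rewrite [Cfsg.Agent.LsF.f83f0b1_94.2, Cfsg.Agent.LsF.f83f0b1_0.2, Cfsg.Agent.LsF.f83f0b1_96.2, Cfsg.Agent.LsF.f83f0b1_97.2, Cfsg.Agent.LsF.f83f0b1_98.2, Cfsg.Agent.LsF.and_eq, Cfsg.Agent.LsF.all_eq]; exact rfl) | exact rfl⟩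
private noncomputable def _root_.Cfsg.Agent.LsF.f83f0b1_100 : {f // @Cfsg.Agent.MO.Rc.sd = f} := ⟨_, by first | (delta Cfsg.Agent.MO.Rc.sd; rewrite [Cfsg.Agent.LsF.nsub_pat, Cfsg.Agent.LsF.iadd_eq, Cfsg.Agent.LsF.imul_eq]; exact rfl) | exact rfl⟩
private noncomputable def _root_.Cfsg.Agent.LsF.f83f0b1_101 : {f // @Cfsg.Agent.MO.Rc.ryF = f} := ⟨_, by first | (delta Cfsg.Agent.MO.Rc.ryF; rewrite [Cfsg.Agent.LsF.f83f0b1_100.2, Cfsg.Agent.LsF.f83f0b1_81.2, Cfsg.Agent.LsF.icast_pat]; exact rfl) | exact rfl⟩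
theorem ent_E7_4 (FK : BoxFK) : Ent tabs E7_tb [1, 4, 6] 0x1023143543123456543120324315432 :=
  ent_act (nd := A1A1A1) (D := D_E7_4) FK (by simp [mem_tabs]) A1A1A1_good (nth 1 [0x1, 0x1020543165432, 0x10203143, 0x1, 0x1, 0x10203143, 0x1020543165432, 0x1]) (nth 0 [0, 4, 4, 3, 4, 3, 3, 7])
    (fun a => cond (nth true [true, false, false, false, false, false, false, true] a) 96 32)
    (fun a => cond (nth true [true, false, false, false, false, false, false, true] a) N96_D.Ls N32_D.Ls)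
    (fun a => cond (nth true [true, false, false, false, false, false, false, true] a) [1, 1, 1, 1, 2, 2, 2, 2, 2, 2, 3, 3, 3, 3, 4, 4]
      [1, 1, 1, 1, 1, 1, 1, 1, 2, 2, 2, 2, 2, 2])
    (E7_tb_eq ▸ act_of (T := E7_tb2) rfl (by ((try (rewrite [Cfsg.Agent.LsF.f83f0b1_79.2, Cfsg.Agent.LsF.f83f0b1_87.2, Cfsg.Agent.LsF.f83f0b1_88.2, Cfsg.Agent.LsF.f83f0b1_91.2, Cfsg.Agent.LsF.f83f0b1_99.2, Cfsg.Agent.LsF.f83f0b1_101.2, Cfsg.Agent.LsF.f83f0b1_70.2, Cfsg.Agent.LsF.f83f0b1_72.2, Cfsg.Agent.LsF.and_eq, Cfsg.Agent.LsF.cond_eq])); decide +kernel))) fun a _ _ _ F => by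
      cases nth true [true, false, false, false, false, false, false, true] a
      exacts [N32_dg F, N96_dg F]

def D_E7_5 : LV.W.Emb where
  io := [3, 4]
  tbi := 0xfe0100000020000000000000000000000000fe01010018
  x := 0x1013243156543120324315432
  fus := [0x1431203243543120326543120324308,
    0x14312032431543123456543120324315615,
    0x113204312345431203243154320654312029]

private noncomputable def _root_.Cfsg.Agent.LsF.f83f0b1_102 : {f // @Cfsg.Agent.LV.W.A2 = f} := ⟨_, by first | (delta Cfsg.Agent.LV.W.A2; rewrite [Cfsg.Agent.LsF.f83f0b1_24.2, Cfsg.Agent.LsF.ineg_pat, Cfsg.Agent.LsF.map_eq]; exact rfl) | exact rfl⟩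
private noncomputable def _root_.Cfsg.Agent.LsF.f83f0b1_103 : {f // @Cfsg.Agent.MO.Rc.intOK = f} := ⟨_, by first | (delta Cfsg.Agent.MO.Rc.intOK; rewrite [Cfsg.Agent.LsF.f83f0b1_0.2, Cfsg.Agent.LsF.f83f0b1_17.2, Cfsg.Agent.LsF.imul_pat, Cfsg.Agent.LsF.or_eq, Cfsg.Agent.LsF.instDecEq_eq, Cfsg.Agent.LsF.instIDecEq_eq, Cfsg.Agent.LsF.ite_eq, Cfsg.Agent.LsF.decide_eq]; exact rfl) | exact rfl⟩
private noncomputable def _root_.Cfsg.Agent.LsF.f83f0b1_104 : {f // @Cfsg.Agent.MO.Rc.resP = f} := ⟨_, by first | (delta Cfsg.Agent.MO.Rc.resP; rewrite [Cfsg.Agent.LsF.f83f0b1_0.2, Cfsg.Agent.LsF.f83f0b1_92.2, Cfsg.Agent.LsF.ineg_pat, Cfsg.Agent.LsF.and_eq, Cfsg.Agent.LsF.or_eq, Cfsg.Agent.LsF.any_eq, Cfsg.Agent.LsF.range_eq, Cfsg.Agent.LsF.instIDecEq_eq, Cfsg.Agent.LsF.decide_eq]; exact rfl) | exact rfl⟩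
private noncomputable def _root_.Cfsg.Agent.LsF.f83f0b1_105 : {f // @Cfsg.Agent.MO.Rc.itN = f} := ⟨_, by first | (delta Cfsg.Agent.MO.Rc.itN; rewrite [Cfsg.Agent.LsF.f83f0b1_4.2]; exact rfl) | exact rfl⟩
private noncomputable def _root_.Cfsg.Agent.LsF.f83f0b1_106 : {f // @Cfsg.Agent.MO.Rc.cycP = f} := ⟨_, by first | (delta Cfsg.Agent.MO.Rc.cycP; rewrite [Cfsg.Agent.LsF.f83f0b1_94.2, Cfsg.Agent.LsF.f83f0b1_98.2, Cfsg.Agent.LsF.f83f0b1_4.2, Cfsg.Agent.LsF.f83f0b1_105.2, Cfsg.Agent.LsF.f83f0b1_0.2, Cfsg.Agent.LsF.f83f0b1_97.2, Cfsg.Agent.LsF.and_eq, Cfsg.Agent.LsF.or_eq, Cfsg.Agent.LsF.not_eq, Cfsg.Agent.LsF.replicate_eq]; exact rfl) | exact rfl⟩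
theorem ent_E7_5 : Ent tabs E7_tb [3, 4] 0x1013243156543120324315432 :=
  ent_int (nd := A2) (D := D_E7_5) (by simp [mem_tabs]) A2_good [[0, 0, 0], [0, -1, 0], [0, -1, -1]] 0x1013243165432 10
    (E7_tb_eq ▸ int_of (T := E7_tb2) rfl (by ((try (rewrite [Cfsg.Agent.LsF.f83f0b1_79.2, Cfsg.Agent.LsF.f83f0b1_87.2, Cfsg.Agent.LsF.f83f0b1_102.2, Cfsg.Agent.LsF.f83f0b1_103.2, Cfsg.Agent.LsF.f83f0b1_104.2, Cfsg.Agent.LsF.f83f0b1_101.2, Cfsg.Agent.LsF.f83f0b1_106.2, Cfsg.Agent.LsF.ineg_pat, Cfsg.Agent.LsF.and_eq])); decide +kernel)))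

def D_E7_8 : LV.W.Emb where
  io := [1, 4, 6]
  tbi := 0xfffffffffffffffffffe010000000000300000000000000000000000fe010000002000000000000000000000000000fffe0008
  x := 0x1543123654312032
  fus := [0x10123204312345431203245654312032435413,
    0x102431203243154654312032431543206543227,
    0x10123204312345431203265431203243154651f,
    0x101203435]

private noncomputable def _root_.Cfsg.Agent.LsF.f83f0b1_107 : {f // @Cfsg.Agent.LV.W.A1A1A1_021 = f} := ⟨_, by first | (delta Cfsg.Agent.LV.W.A1A1A1_021; rewrite [Cfsg.Agent.LsF.f83f0b1_24.2, Cfsg.Agent.LsF.map_eq]; exact rfl) | exact rfl⟩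
theorem ent_E7_8 (FK : BoxFK) : Ent tabs E7_tb [1, 4, 6] 0x1543123654312032 :=
  ent_lin (nd := A1A1A1_021) (D := D_E7_8) FK (by simp [mem_tabs]) A1A1A1_021_good 0x1543123654312032 8
    (E7_tb_eq ▸ lin_of (T := E7_tb2) rfl (by ((try (rewrite [Cfsg.Agent.LsF.f83f0b1_79.2, Cfsg.Agent.LsF.f83f0b1_87.2, Cfsg.Agent.LsF.f83f0b1_107.2, Cfsg.Agent.LsF.f83f0b1_91.2, Cfsg.Agent.LsF.f83f0b1_106.2, Cfsg.Agent.LsF.f83f0b1_101.2, Cfsg.Agent.LsF.and_eq])); decide +kernel)))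

def D_E7_10 : LV.W.Emb where
  io := [1, 3]
  tbi := 0xfe0101001800000000000000000000000000fffe0008
  x := 0x1231543120346
  fus := [0x1013120324312034543120326543120324315436541e,
    0x10123204326533,
    0x10123434]

private noncomputable def _root_.Cfsg.Agent.LsF.f83f0b1_108 : {f // @Cfsg.Agent.LV.W.A2_10 = f} := ⟨_, by first | (delta Cfsg.Agent.LV.W.A2_10; rewrite [Cfsg.Agent.LsF.f83f0b1_24.2, Cfsg.Agent.LsF.ineg_pat, Cfsg.Agent.LsF.map_eq]; exact rfl) | exact rfl⟩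
theorem ent_E7_10 : Ent tabs E7_tb [1, 3] 0x1231543120346 :=
  ent_int (nd := A2_10) (D := D_E7_10) (by simp [mem_tabs]) A2_10_good [[0, 0, 0], [1, 0, 0], [1, 1, 0]] 0x1231543120346 10
    (E7_tb_eq ▸ int_of (T := E7_tb2) rfl (by ((try (rewrite [Cfsg.Agent.LsF.f83f0b1_79.2, Cfsg.Agent.LsF.f83f0b1_87.2, Cfsg.Agent.LsF.f83f0b1_108.2, Cfsg.Agent.LsF.f83f0b1_103.2, Cfsg.Agent.LsF.f83f0b1_104.2, Cfsg.Agent.LsF.f83f0b1_101.2, Cfsg.Agent.LsF.f83f0b1_106.2, Cfsg.Agent.LsF.and_eq])); decide +kernel)))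

def D_E7_12 : LV.W.Emb where
  io := [1, 6, 4]
  tbi := 0xfe0100000020fffffffffffffffffffe0100000000003000000000000000000000000000fffe0008
  x := 0x12054316543
  fus := [0x1013431203245465431203243546522,
    0x1031203243120325431203243565431203243154320654312345632]

private noncomputable def _root_.Cfsg.Agent.LsF.f83f0b1_109 : {f // @Cfsg.Agent.LV.W.A1A1A1_120 = f} := ⟨_, by first | (delta Cfsg.Agent.LV.W.A1A1A1_120; rewrite [Cfsg.Agent.LsF.f83f0b1_24.2, Cfsg.Agent.LsF.map_eq]; exact rfl) | exact rfl⟩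
theorem ent_E7_12 (FK : BoxFK) : Ent tabs E7_tb [1, 6, 4] 0x12054316543 :=
  ent_lin (nd := A1A1A1_120) (D := D_E7_12) FK (by simp [mem_tabs]) A1A1A1_120_good 0x12054316543 12
    (E7_tb_eq ▸ lin_of (T := E7_tb2) rfl (by ((try (rewrite [Cfsg.Agent.LsF.f83f0b1_79.2, Cfsg.Agent.LsF.f83f0b1_87.2, Cfsg.Agent.LsF.f83f0b1_109.2, Cfsg.Agent.LsF.f83f0b1_91.2, Cfsg.Agent.LsF.f83f0b1_106.2, Cfsg.Agent.LsF.f83f0b1_101.2, Cfsg.Agent.LsF.and_eq])); decide +kernel)))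

def D_E8_7 : LV.W.Emb where
  io := [4]
  tbi := 0xfe0100000020
  x := 0x10314325465431234576543120324315432
  fus := [0x112031203546543120345765431203243154320654312376543120321b,
    0x131204312034543120324315432654312032431543265765431203243153c]

private noncomputable def _root_.Cfsg.Agent.LsF.f83f0b1_110 : {f // @Cfsg.Agent.LV.W.E8 = f} := ⟨_, by first | (delta Cfsg.Agent.LV.W.E8; rewrite [Cfsg.Agent.LsF.f83f0b1_24.2, Cfsg.Agent.LsF.ineg_pat, Cfsg.Agent.LsF.map_eq]; exact rfl) | exact rfl⟩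
private noncomputable def _root_.Cfsg.Agent.LsF.f83f0b1_111 : {f // @Cfsg.Agent.LV.W.E8_bas = f} := ⟨_, by first | (delta Cfsg.Agent.LV.W.E8_bas; rewrite [Cfsg.Agent.LsF.f83f0b1_24.2, Cfsg.Agent.LsF.map_eq]; exact rfl) | exact rfl⟩
private noncomputable def _root_.Cfsg.Agent.LsF.f83f0b1_112 : {f // @Cfsg.Agent.LV.W.E8_inv = f} := ⟨_, by first | (delta Cfsg.Agent.LV.W.E8_inv; rewrite [Cfsg.Agent.LsF.f83f0b1_24.2, Cfsg.Agent.LsF.f83f0b1_81.2, Cfsg.Agent.LsF.map_eq, Cfsg.Agent.LsF.zip_eq]; exact rfl) | exact rfl⟩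
private noncomputable def _root_.Cfsg.Agent.LsF.f83f0b1_113 : {f // @Cfsg.Agent.LV.W.E8_L = f} := ⟨_, by first | (delta Cfsg.Agent.LV.W.E8_L; rewrite [Cfsg.Agent.LsF.f83f0b1_110.2, Cfsg.Agent.LsF.f83f0b1_111.2, Cfsg.Agent.LsF.f83f0b1_112.2]; exact rfl) | exact rfl⟩
private noncomputable def _root_.Cfsg.Agent.LsF.f83f0b1_114 : {f // @Cfsg.Agent.MO.U.E8_d = f} := ⟨_, by first | (delta Cfsg.Agent.MO.U.E8_d; rewrite [Cfsg.Agent.LsF.ndiv_pat, Cfsg.Agent.LsF.nmod_pat, Cfsg.Agent.LsF.npow_pat, Cfsg.Agent.LsF.ineg_pat, Cfsg.Agent.LsF.instDecEq_eq, Cfsg.Agent.LsF.map_eq, Cfsg.Agent.LsF.range_eq, Cfsg.Agent.LsF.ite_eq]; exact rfl) | exact rfl⟩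
private noncomputable def _root_.Cfsg.Agent.LsF.f83f0b1_115 : {f // @Cfsg.Agent.MO.U.E8_tb = f} := ⟨_, by first | (delta Cfsg.Agent.MO.U.E8_tb; rewrite [Cfsg.Agent.LsF.f83f0b1_113.2, Cfsg.Agent.LsF.f83f0b1_114.2, Cfsg.Agent.LsF.f83f0b1_24.2, Cfsg.Agent.LsF.decLt_eq, Cfsg.Agent.LsF.map_eq, Cfsg.Agent.LsF.natAbs_eq, Cfsg.Agent.LsF.decide_eq]; exact rfl) | exact rfl⟩
private noncomputable def _root_.Cfsg.Agent.LsF.f83f0b1_116 : {f // @Cfsg.Agent.MO.U.E8_tb2 = f} := ⟨_, by first | (delta Cfsg.Agent.MO.U.E8_tb2; rewrite [Cfsg.Agent.LsF.f83f0b1_115.2, Cfsg.Agent.LsF.f83f0b1_86.2, Cfsg.Agent.LsF.map_eq]; exact rfl) | exact rfl⟩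
private noncomputable def _root_.Cfsg.Agent.LsF.f83f0b1_117 : {f // @Cfsg.Agent.LV.W.A1 = f} := ⟨_, by first | (delta Cfsg.Agent.LV.W.A1; rewrite [Cfsg.Agent.LsF.f83f0b1_24.2, Cfsg.Agent.LsF.map_eq]; exact rfl) | exact rfl⟩
theorem ent_E8_7 (FK : BoxFK) : Ent tabs E8_tb [4] 0x10314325465431234576543120324315432 :=
  ent_lin (nd := A1) (D := D_E8_7) FK (by simp [mem_tabs]) A1_good 0x11231432054316543176 14
    (E8_tb_eq ▸ lin_of (T := E8_tb2) rfl (by ((try (rewrite [Cfsg.Agent.LsF.f83f0b1_79.2, Cfsg.Agent.LsF.f83f0b1_116.2, Cfsg.Agent.LsF.f83f0b1_117.2, Cfsg.Agent.LsF.f83f0b1_91.2, Cfsg.Agent.LsF.f83f0b1_106.2, Cfsg.Agent.LsF.f83f0b1_101.2, Cfsg.Agent.LsF.and_eq])); decide +kernel)))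

def D_E8_9 : LV.W.Emb where
  io := [5, 6]
  tbi := 0xfe0100000000003000000000000000000000fe010000000028
  x := 0x112314312054312034565431203243154320676543123
  fus := [0x1012654312032431543206543123456765431203243154320654312376543120320,
    0x1012654312032431543206543123456765431203243154320654312376543120341,
    0x132431543120345654312032431543206575e]

theorem ent_E8_9 : Ent tabs E8_tb [5, 6] 0x112314312054312034565431203243154320676543123 :=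
  ent_int (nd := A2) (D := D_E8_9) (by simp [mem_tabs]) A2_good [[0, 0, 0], [0, -1, 0], [0, -1, -1]] 0x13204312345431203465431203243156765432 18
    (E8_tb_eq ▸ int_of (T := E8_tb2) rfl (by ((try (rewrite [Cfsg.Agent.LsF.f83f0b1_79.2, Cfsg.Agent.LsF.f83f0b1_116.2, Cfsg.Agent.LsF.f83f0b1_102.2, Cfsg.Agent.LsF.f83f0b1_103.2, Cfsg.Agent.LsF.f83f0b1_104.2, Cfsg.Agent.LsF.f83f0b1_101.2, Cfsg.Agent.LsF.f83f0b1_106.2, Cfsg.Agent.LsF.ineg_pat, Cfsg.Agent.LsF.and_eq])); decide +kernel)))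

def D_E8_14 : LV.W.Emb where
  io := [3]
  tbi := 0xfe01010018
  x := 0x101325431654312347
  fus := [0x131203431203454312036543120327654312032431543265476538,
    0x1231431203243154312346576543120324354657657]

theorem ent_E8_14 (FK : BoxFK) : Ent tabs E8_tb [3] 0x101325431654312347 :=
  ent_lin (nd := A1) (D := D_E8_14) FK (by simp [mem_tabs]) A1_good 0x101325431654312347 14
    (E8_tb_eq ▸ lin_of (T := E8_tb2) rfl (by ((try (rewrite [Cfsg.Agent.LsF.f83f0b1_79.2, Cfsg.Agent.LsF.f83f0b1_116.2, Cfsg.Agent.LsF.f83f0b1_117.2, Cfsg.Agent.LsF.f83f0b1_91.2, Cfsg.Agent.LsF.f83f0b1_106.2, Cfsg.Agent.LsF.f83f0b1_101.2, Cfsg.Agent.LsF.and_eq])); decide +kernel)))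

def D_E8_18 : LV.W.Emb where
  io := [3, 4]
  tbi := 0xfe0100000020000000000000000000000000fe01010018
  x := 0x1054312345654312032431543206765431
  fus := [0x1324312032543126543120324315432654317654312032431543206543127654312037,
    0x1046543120324315432065431234765431203243159,
    0x102031234312032543120324315465476543120324315432065431234567654312032431543206543123455f]

theorem ent_E8_18 : Ent tabs E8_tb [3, 4] 0x1054312345654312032431543206765431 :=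
  ent_int (nd := A2_10) (D := D_E8_18) (by simp [mem_tabs]) A2_10_good [[0, 0, 0], [1, 0, 0], [1, 1, 0]] 0x1054312345654312032431543206765431 18
    (E8_tb_eq ▸ int_of (T := E8_tb2) rfl (by ((try (rewrite [Cfsg.Agent.LsF.f83f0b1_79.2, Cfsg.Agent.LsF.f83f0b1_116.2, Cfsg.Agent.LsF.f83f0b1_108.2, Cfsg.Agent.LsF.f83f0b1_103.2, Cfsg.Agent.LsF.f83f0b1_104.2, Cfsg.Agent.LsF.f83f0b1_101.2, Cfsg.Agent.LsF.f83f0b1_106.2, Cfsg.Agent.LsF.and_eq])); decide +kernel)))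

end Cfsg.Agent.MO.Rc
end

private theorem dce_8bb6e4a267bc : _root_.True := by
  try have : _root_.True := by simp only [_root_.Cfsg.Agent.MO.Rc.resOK.eq_1]
  try have : _root_.True := by simp only [_root_.Cfsg.Agent.MO.Rc.degOK.eq_1]
  try have : _root_.True := by simp only [_root_.Cfsg.Agent.MO.Rc.gn.eq_1]
  try have : _root_.True := by simp only [_root_.Cfsg.Agent.LV.W.Emb.ι.eq_1]
  try have : _root_.True := by simp only [_root_.Cfsg.Agent.MO.Rc.actOK.eq_1]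
  try have : _root_.True := by simp only [_root_.Cfsg.Agent.MO.Rc.baseOK.eq_1]
  try have : _root_.True := by simp only [_root_.Cfsg.Agent.MO.Rc.cycOK.eq_1]
  try have : _root_.True := by simp only [_root_.Cfsg.Agent.MO.Rc.clN.eq_1]
  try have : _root_.True := by simp only [_root_.Cfsg.Agent.MO.Rc.clo.eq_1]
  try have : _root_.True := by simp only [_root_.Cfsg.Agent.MO.Rc.supOK.eq_1]
  try have : _root_.True := by simp only [_root_.Cfsg.Agent.MO.Rc.linOK.eq_1]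
  try have : _root_.True := by simp only [_root_.Cfsg.Agent.MO.Rc.mvOK.eq_1]
  exact _root_.True.intro
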